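import Mathlib

/-!
# Noncyclic abelian groups of exponent `r` (helper799)

`Pair r X` : two commuting elements of order `r`, one not a power of the other. `pair_of_no_sq` : from the order and the
absence of elements of order `r²`.  `Big X` : an elementary abelian 2-subgroup of order at least 5.
-/

set_option autoImplicit false

namespace Cfsg.Agent.H799.U45

open Subgroup

/-- two commuting elements of order `r` generating a noncyclic group -/
def Pair (r : ℕ) (X : Type*) [Group X] : Prop :=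
  ∃ x y : X, orderOf x = r ∧ orderOf y = r ∧ x * y = y * x ∧ y ∉ zpowers x

/-- an elementary abelian 2-subgroup with more than 4 elements -/
def Big (X : Type*) [Group X] : Prop := ∃ E : Subgroup X, (∀ e ∈ E, e * e = 1) ∧ 4 < Nat.card E

theorem Pair.map {r : ℕ} {X Y : Type*} [Group X] [Group Y] (f : X →* Y) (hf : Function.Injective f) (h : Pair r X) :
    Pair r Y := by
  obtain ⟨x, y, hx, hy, hxy, hn⟩ := h
  refine ⟨f x, f y, by rw [orderOf_injective f hf, hx], by rw [orderOf_injective f hf, hy], ?_, ?_⟩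
  · rw [← map_mul, hxy, map_mul]
  · rintro ⟨k, hk⟩
    apply hn
    refine ⟨k, hf ?_⟩
    simp only at hk ⊢
    rw [map_zpow, hk]

theorem Pair.of_equiv {r : ℕ} {X Y : Type*} [Group X] [Group Y] (e : X ≃* Y) (h : Pair r Y) : Pair r X :=
  h.map e.symm.toMonoidHom e.symm.injective

theorem Pair.quot {r : ℕ} (hr : r.Prime) {X : Type*} [Group X] [Finite X] (N : Subgroup X) [N.Normal]
    (hN : ¬ r ∣ Nat.card N) (h : Pair r X) : Pair r (X ⧸ N) := by
  obtain ⟨x, y, hx, hy, hxy, hn⟩ := h
  have hfr : Fact r.Prime := ⟨hr⟩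
  have key : ∀ g : X, g ∈ N → g ^ r = 1 → g = 1 := by
    intro g hg h1
    have h2 : orderOf g ∣ r := orderOf_dvd_of_pow_eq_one h1
    rcases (Nat.dvd_prime hr).1 h2 with h3 | h3
    · exact orderOf_eq_one_iff.1 h3
    · exfalso
      apply hN
      rw [← h3, ← Subgroup.orderOf_mk g hg]
      exact orderOf_dvd_natCard _
  have ho : ∀ g : X, orderOf g = r → orderOf (QuotientGroup.mk g : X ⧸ N) = r := by
    intro g hg
    apply orderOf_eq_prime
    · rw [← QuotientGroup.mk_pow, ← hg, pow_orderOf_eq_one, QuotientGroup.mk_one]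
    · intro h1
      have h2 := key g ((QuotientGroup.eq_one_iff g).1 h1) (by rw [← hg, pow_orderOf_eq_one])
      rw [h2, orderOf_one] at hg
      exact hr.one_lt.ne hg
  refine ⟨x, y, ho x hx, ho y hy, ?_, ?_⟩
  · rw [← QuotientGroup.mk_mul, hxy, QuotientGroup.mk_mul]
  · rintro ⟨k, hk⟩
    apply hn
    have h1 : ((x ^ k : X) : X ⧸ N) = (y : X ⧸ N) := by
      rw [QuotientGroup.mk_zpow]; exact hk
    have h2 := QuotientGroup.eq.1 h1
    have hc : Commute x y := hxy
    have h3 : ((x ^ k)⁻¹ * y) ^ r = 1 := by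
      have hc2 : Commute (x ^ k)⁻¹ y := (hc.zpow_left k).inv_left
      rw [hc2.mul_pow, inv_pow, ← zpow_natCast, ← zpow_mul, mul_comm k, zpow_mul, zpow_natCast]
      have e1 : x ^ r = 1 := by rw [← hx, pow_orderOf_eq_one]
      have e2 : y ^ r = 1 := by rw [← hy, pow_orderOf_eq_one]
      rw [e1, e2, one_zpow, inv_one, one_mul]
    have h4 := key _ h2 h3
    exact ⟨k, (inv_mul_eq_one.1 h4)⟩

theorem pair_of_card {r : ℕ} (hr : r.Prime) {X : Type*} [Group X] (P : Subgroup X) (hP : Nat.card P = r ^ 2)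
    (hno : ∀ g ∈ P, orderOf g ≠ r ^ 2) : Pair r X := by
  have hfr : Fact r.Prime := ⟨hr⟩
  have hfin : Finite P := Nat.finite_of_card_ne_zero (by rw [hP]; exact pow_ne_zero 2 hr.ne_zero)
  have hcomm : ∀ a b : P, a * b = b * a := by
    have := IsPGroup.isMulCommutative_of_card_eq_prime_sq hP
    exact this.is_comm.comm
  have hord : ∀ a : P, a ≠ 1 → orderOf a = r := by
    intro a ha
    have h1 : orderOf a ∣ r ^ 2 := by rw [← hP]; exact orderOf_dvd_natCard a
    obtain ⟨k, hk, hk'⟩ := (Nat.dvd_prime_pow hr).1 h1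
    interval_cases k
    · exact absurd (orderOf_eq_one_iff.1 (by rw [hk', pow_zero])) ha
    · rw [hk', pow_one]
    · exact absurd (by rw [Subgroup.orderOf_coe, hk']) (hno a a.2)
  have h1 : 1 < Nat.card P := by
    rw [hP]; exact Nat.one_lt_pow two_ne_zero hr.one_lt
  have hnt : Nontrivial P := Finite.one_lt_card_iff_nontrivial.1 h1
  obtain ⟨x, hx⟩ := exists_ne (1 : P)
  have hxo := hord x hx
  have h2 : ∃ y : P, y ∉ zpowers x := by
    by_contra hcon
    push Not at hcon
    have h3 : zpowers x = ⊤ := eq_top_iff.2 fun y _ => hcon y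
    have h4 : Nat.card (zpowers x) = r ^ 2 := by rw [h3, Subgroup.card_top, hP]
    rw [Nat.card_zpowers, hxo] at h4
    have := hr.one_lt
    nlinarith
  obtain ⟨y, hy⟩ := h2
  have hy1 : y ≠ 1 := fun h => hy (h ▸ one_mem _)
  have hpair : Pair r P := ⟨x, y, hxo, hord y hy1, hcomm x y, hy⟩
  exact hpair.map P.subtype P.subtype_injective

theorem pair_of_no_sq {r : ℕ} (hr : r.Prime) {X : Type*} [Group X] [Finite X] (h : r ^ 2 ∣ Nat.card X)
    (hno : ∀ g : X, orderOf g ≠ r ^ 2) : Pair r X := by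
  have hfr : Fact r.Prime := ⟨hr⟩
  obtain ⟨P, hP⟩ := Sylow.exists_subgroup_card_pow_prime r h
  exact pair_of_card hr P hP fun g _ => hno g

/-- elements given by explicit powers -/
theorem pair_of_pows {r : ℕ} (hr : r.Prime) {X : Type*} [Group X] {x y : X} (hx : x ^ r = 1) (hx1 : x ≠ 1)
    (hy : y ^ r = 1) (hxy : x * y = y * x) (hn : ∀ k < r, x ^ k ≠ y) : Pair r X := by
  have hfr : Fact r.Prime := ⟨hr⟩
  have hxo : orderOf x = r := orderOf_eq_prime hx hx1
  have hy1 : y ≠ 1 := fun h => hn 0 hr.pos (by rw [pow_zero, h])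
  refine ⟨x, y, hxo, orderOf_eq_prime hy hy1, hxy, ?_⟩
  intro h
  obtain ⟨k, hk, hk'⟩ : ∃ k, k < r ∧ x ^ k = y := by
    have hf : IsOfFinOrder x := orderOf_pos_iff.1 (by rw [hxo]; exact hr.pos)
    obtain ⟨n, hn⟩ := (hf.mem_powers_iff_mem_zpowers (y := y)).2 h
    refine ⟨n % r, Nat.mod_lt _ hr.pos, ?_⟩
    simp only at hn
    rw [← hn, ← hxo, pow_mod_orderOf]
  exact hn k hk hk'

theorem Big.map {X Y : Type*} [Group X] [Group Y] (f : X →* Y) (hf : Function.Injective f) (h : Big X) : Big Y := by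
  obtain ⟨E, h1, h2⟩ := h
  refine ⟨E.map f, ?_, by rw [Subgroup.card_map_of_injective hf]; exact h2⟩
  rintro - ⟨e, he, rfl⟩
  rw [← map_mul, h1 e he, map_one]

theorem Big.of_equiv {X Y : Type*} [Group X] [Group Y] (e : X ≃* Y) (h : Big Y) : Big X :=
  h.map e.symm.toMonoidHom e.symm.injective

theorem big_of {X : Type*} [Group X] [Finite X] {a b c : X} (ha : a * a = 1) (hb : b * b = 1) (hc : c * c = 1)
    (hab : a * b = b * a) (hac : a * c = c * a) (hbc : b * c = c * b) (h1 : a ≠ 1) (h2 : b ≠ 1) (h3 : a ≠ b)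
    (h4 : c ≠ 1) (h5 : c ≠ a) (h6 : c ≠ b) (h7 : c ≠ a * b) : Big X := by
  have hcomm : ∀ x ∈ ({a, b, c} : Set X), ∀ y ∈ ({a, b, c} : Set X), x * y = y * x := by
    rintro x (rfl | rfl | rfl) y (rfl | rfl | rfl)
    · rfl
    · exact hab
    · exact hac
    · exact hab.symm
    · rfl
    · exact hbc
    · exact hac.symm
    · exact hbc.symm
    · rfl
  have hCc := Subgroup.isMulCommutative_closure hcomm
  set E : Subgroup X := closure ({a, b, c} : Set X) with hE
  have hmc : ∀ x ∈ E, ∀ y ∈ E, x * y = y * x := fun x hx y hy =>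
    congrArg Subtype.val (hCc.is_comm.comm (⟨x, hx⟩ : E) ⟨y, hy⟩)
  have hsq : ∀ e ∈ E, e * e = 1 := by
    intro e he
    induction he using Subgroup.closure_induction with
    | mem x hx =>
      rcases hx with rfl | rfl | rfl <;> assumption
    | one => exact one_mul 1
    | mul x y hx hy ihx ihy =>
      have h := hmc x hx y hy
      calc x * y * (x * y) = x * (y * x) * y := by group
        _ = x * (x * y) * y := by rw [h]
        _ = (x * x) * (y * y) := by group
        _ = 1 := by rw [ihx, ihy, one_mul]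
    | inv x hx ih => rw [← mul_inv_rev, ih, inv_one]
  refine ⟨E, hsq, ?_⟩
  have ha' : a ∈ E := subset_closure (by simp)
  have hb' : b ∈ E := subset_closure (by simp)
  have hc' : c ∈ E := subset_closure (by simp)
  let f : Fin 5 → E := ![1, ⟨a, ha'⟩, ⟨b, hb'⟩, ⟨a * b, mul_mem ha' hb'⟩, ⟨c, hc'⟩]
  have hab1 : a * b ≠ 1 := by
    intro h
    apply h3
    calc a = a * (b * b) := by rw [hb, mul_one]
      _ = (a * b) * b := by group
      _ = b := by rw [h, one_mul]
  have hf : Function.Injective f := by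
    intro i j hij
    have hij' := congrArg Subtype.val hij
    fin_cases i <;> fin_cases j <;> first | rfl | (exfalso; simp [f] at hij')
    all_goals first
      | exact h1 hij' | exact h1 hij'.symm | exact h2 hij' | exact h2 hij'.symm | exact h3 hij' | exact h3 hij'.symm
      | exact h4 hij' | exact h4 hij'.symm | exact h5 hij' | exact h5 hij'.symm | exact h6 hij' | exact h6 hij'.symm
      | exact h7 hij' | exact h7 hij'.symm | exact hab1 hij' | exact hab1 hij'.symm
  have h8 := Nat.card_le_card_of_injective f hf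
  rw [Nat.card_fin] at h8
  omega

end Cfsg.Agent.H799.U45
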