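import Cfsg.Agent.H799.U45.ChiefMod
import Cfsg.Agent.H799.U45.Pair
import Cfsg.Agent.H413.U45.Fpf
import Cfsg.Agent.H422.GTwoFour
import Cfsg.Agent.H380.UF.AutG2

/-!
# `G₂(4)` is not the simple section of a group with the prime graph of `PSU₄(5)` (helper799)
-/

set_option autoImplicit false

namespace Cfsg.Agent.H799.U45

open Subgroup Cfsg.Agent.H421.Act Cfsg.Agent.H413.U45 Cfsg.Agent.OrdDiv Cfsg.Agent.H422.GTwoFour
  Cfsg.Agent.Lib.FieldFour Cfsg.Agent.Lib.FieldFour.F4 Cfsg.Lie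

universe u

section elements

def mDa : M8 := Matrix.diagonal ![i, w, v, i, v, w, i, i]
def mDai : M8 := Matrix.diagonal ![i, v, w, i, w, v, i, i]
def mDb : M8 := Matrix.diagonal ![i, i, w, v, i, v, w, i]
def mDbi : M8 := Matrix.diagonal ![i, i, v, w, i, w, v, i]
/-- root elements -/
def mR (s t : F4) : M8 := !![i, o, o, o, o, o, o, o; o, i, s, t, o, o, o, o; o, o, i, o, o, o, o, o; o, o, o, i, o, o, o, o;
  o, o, o, o, i, o, o, o; o, o, o, o, s, i, o, o; o, o, o, o, t, o, i, o; o, o, o, o, o, o, o, i]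

def gDa : GL (Fin 8) F4 := ⟨mDa, mDai, by decide +kernel, by decide +kernel⟩
def gDb : GL (Fin 8) F4 := ⟨mDb, mDbi, by decide +kernel, by decide +kernel⟩
def gRa : GL (Fin 8) F4 := ⟨mR i o, mR i o, by decide +kernel, by decide +kernel⟩
def gRb : GL (Fin 8) F4 := ⟨mR o i, mR o i, by decide +kernel, by decide +kernel⟩
def gRc : GL (Fin 8) F4 := ⟨mR o w, mR o w, by decide +kernel, by decide +kernel⟩

def eDa : Cfsg.Lie.G2 F4 := ⟨gDa, mem_of _ (by decide +kernel)⟩
def eDb : Cfsg.Lie.G2 F4 := ⟨gDb, mem_of _ (by decide +kernel)⟩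
def eRa : Cfsg.Lie.G2 F4 := ⟨gRa, mem_of _ (by decide +kernel)⟩
def eRb : Cfsg.Lie.G2 F4 := ⟨gRb, mem_of _ (by decide +kernel)⟩
def eRc : Cfsg.Lie.G2 F4 := ⟨gRc, mem_of _ (by decide +kernel)⟩

theorem ne_of {a b : Cfsg.Lie.G2 F4} (h : a.1.1 ≠ b.1.1) : a ≠ b := fun h' => h (by rw [h'])

theorem pair_G24 : Pair 3 (Cfsg.Lie.G2 F4) := by
  refine pair_of_pows Nat.prime_three (x := eDa) (y := eDb) (ext' (show mDa ^ 3 = 1 by decide +kernel))
    (ne_of (show mDa ≠ 1 by decide +kernel)) (ext' (show mDb ^ 3 = 1 by decide +kernel))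
    (ext' (show mDa * mDb = mDb * mDa by decide +kernel)) ?_
  intro k hk
  interval_cases k
  · exact ne_of (show mDa ^ 0 ≠ mDb by decide +kernel)
  · exact ne_of (show mDa ^ 1 ≠ mDb by decide +kernel)
  · exact ne_of (show mDa ^ 2 ≠ mDb by decide +kernel)

theorem big_G24 : Big (Cfsg.Lie.G2 F4) :=
  big_of (a := eRa) (b := eRb) (c := eRc) (ext' (show mR i o * mR i o = 1 by decide +kernel))
    (ext' (show mR o i * mR o i = 1 by decide +kernel)) (ext' (show mR o w * mR o w = 1 by decide +kernel))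
    (ext' (show mR i o * mR o i = mR o i * mR i o by decide +kernel))
    (ext' (show mR i o * mR o w = mR o w * mR i o by decide +kernel))
    (ext' (show mR o i * mR o w = mR o w * mR o i by decide +kernel))
    (ne_of (show mR i o ≠ 1 by decide +kernel)) (ne_of (show mR o i ≠ 1 by decide +kernel))
    (ne_of (show mR i o ≠ mR o i by decide +kernel)) (ne_of (show mR o w ≠ 1 by decide +kernel))
    (ne_of (show mR o w ≠ mR i o by decide +kernel)) (ne_of (show mR o w ≠ mR o i by decide +kernel))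
    (ne_of (show mR o w ≠ mR i o * mR o i by decide +kernel))

end elements

theorem g24_real {S : Type u} [Group S] (hS : Real (.g2 4) S) : Pair 3 S ∧ Big S ∧ Nat.card S = 251596800 := by
  obtain ⟨F, _, _, hF, ⟨e⟩⟩ := hS
  have hF' : Fintype.card F4 = Fintype.card F := by rw [hF]; rfl
  let φ : F4 ≃+* F := FiniteField.ringEquivOfCardEq hF'
  have e1 : ↥(Cfsg.Lie.chevG2.group F4) ≃* ↥(Cfsg.Lie.chevG2.group F) :=
    Cfsg.Agent.ChevalleyStructure.FieldIso.groupEquiv Cfsg.Lie.chevG2 φ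
  obtain ⟨e2⟩ := Cfsg.Agent.H638.G2Iso.equiv (F := F4)
  refine ⟨Pair.of_equiv ((e.trans e1.symm).trans e2.symm) pair_G24,
    Big.of_equiv ((e.trans e1.symm).trans e2.symm) big_G24, ?_⟩
  obtain ⟨f⟩ := Cfsg.Agent.H638.G2Iso.equiv (F := F)
  rw [Nat.card_congr e.toEquiv, ← Nat.card_congr f.toEquiv, Cfsg.Agent.H638.G2Iso.card_G2,
    Nat.card_eq_fintype_card, hF]
  norm_num

theorem no_g24 {G : Type u} [Group G] [Finite G] (hG : Gr G) {K : Subgroup G} [K.Normal] {S : Subgroup (G ⧸ K)}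
    (hS : Cfsg.Agent.H413.U45.Sec G K S) : ¬ Real (.g2 4) S := by
  intro hR
  have hSn := hS.normal
  obtain ⟨⟨x, y, hx, hy, hxy, hn⟩, hB, hc⟩ := g24_real hR
  have h7 : ¬ 7 ∣ Nat.card K := by
    intro h
    obtain ⟨E, hE, hc⟩ := hB
    have h1 := three_inv K (by norm_num) (by norm_num) h hG.no14 (E.map S.subtype) (by
      rintro - ⟨e, he, rfl⟩
      rw [← map_mul, hE e he, map_one])
    rw [Subgroup.card_map_of_injective S.subtype_injective] at h1
    omega
  have h13 : ¬ 13 ∣ Nat.card K := by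
    intro h
    have h1 := comm_mem K (r := 3) (t := 13) (by norm_num) Nat.prime_three (by norm_num) (by norm_num) h hG.no39
      (x := (x : G ⧸ K)) (y := (y : G ⧸ K))
      (by rw [Subgroup.orderOf_coe, hx]) (by rw [Subgroup.orderOf_coe, hy]) (congrArg Subtype.val hxy)
    obtain ⟨k, hk⟩ := h1
    exact hn ⟨k, Subtype.ext hk⟩
  have hI : ¬ 13 ∣ S.index := Cfsg.Agent.H380.UF.AutG2.not_dvd_index S hR hS.cent (by norm_num) (by norm_num)
  obtain ⟨V, i1, i2, i3, ρ, h2, h7', z, hz, hzS, u, hu, hu'⟩ := chief13 hG K S hS h7 h13 (by rw [hc]; norm_num)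
    (by rw [hc]; norm_num) hI (Cfsg.Agent.H380.UF.AutG2.no26 S hR hS.cent)
  refine hu (Cfsg.Agent.H422.GTwoFour.fixed_zero_of_real hR (ρ.comp S.subtype) h2 ?_ ⟨z, hzS⟩ ?_ u hu')
  · intro g hg v hv
    exact h7' (g : G ⧸ K) (by rw [Subgroup.orderOf_coe, hg]) v hv
  · rw [Subgroup.orderOf_mk, hz]

end Cfsg.Agent.H799.U45
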