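import Cfsg.Agent.H638.G2Iso
import Cfsg.Agent.ChevalleyStructure.FieldIso
import Cfsg.Agent.OrdDiv.Main

/-!
# A Frobenius group of order 56 in `G₂(3)` (helper799)

Sign changes and the 7-cycle on the units of the octonions over the field with three elements.
-/

set_option autoImplicit false

namespace Cfsg.Agent.H799.U45

open Cfsg Matrix Cfsg.Lie

universe u

/-- generators of `2³ : 7` -/
def Frob56 (X : Type*) [Group X] : Prop :=
  ∃ a b c u : X, a ≠ 1 ∧ a * a = 1 ∧ b * b = 1 ∧ c * c = 1 ∧ a * b = b * a ∧ a * c = c * a ∧ b * c = c * b ∧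
    u ^ 7 = 1 ∧ u ≠ 1 ∧ u * a = b * u ∧ u * b = c * u ∧ u * c = a * c * u

theorem Frob56.of_equiv {X Y : Type*} [Group X] [Group Y] (e : X ≃* Y) (h : Frob56 Y) : Frob56 X := by
  obtain ⟨a, b, c, u, h0, h1, h2, h3, h4, h5, h6, h7, h8, h9, h10, h11⟩ := h
  refine ⟨e.symm a, e.symm b, e.symm c, e.symm u, ?_, ?_, ?_, ?_, ?_, ?_, ?_, ?_, ?_, ?_, ?_, ?_⟩
  · exact fun h => h0 ((map_eq_one_iff e.symm e.symm.injective).1 h)
  all_goals first
    | (exact fun h => h8 ((map_eq_one_iff e.symm e.symm.injective).1 h))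
    | (simp only [← map_mul, ← map_pow, h1, h2, h3, h4, h5, h6, h7, h9, h10, h11, map_one])

section

variable {F : Type*} [Field F]

theorem zorn_add_left (x x' y : Fin 8 → F) : zornMul (x + x') y = zornMul x y + zornMul x' y := by
  funext i
  fin_cases i <;> simp [zornMul, dot3, cross3] <;> ring

theorem zorn_add_right (x y y' : Fin 8 → F) : zornMul x (y + y') = zornMul x y + zornMul x y' := by
  funext i
  fin_cases i <;> simp [zornMul, dot3, cross3] <;> ring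

theorem zorn_smul_left (t : F) (x y : Fin 8 → F) : zornMul (t • x) y = t • zornMul x y := by
  funext i
  fin_cases i <;> simp [zornMul, dot3, cross3] <;> ring

theorem zorn_smul_right (t : F) (x y : Fin 8 → F) : zornMul x (t • y) = t • zornMul x y := by
  funext i
  fin_cases i <;> simp [zornMul, dot3, cross3] <;> ring

/-- the product as a bilinear map -/
def zornB (F : Type*) [Field F] : (Fin 8 → F) →ₗ[F] (Fin 8 → F) →ₗ[F] (Fin 8 → F) :=
  LinearMap.mk₂ F zornMul zorn_add_left zorn_smul_left zorn_add_right zorn_smul_right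

theorem mem_of_basis (M : GL (Fin 8) F)
    (h : ∀ i j : Fin 8, (M : Matrix (Fin 8) (Fin 8) F) *ᵥ zornMul (Pi.single i 1) (Pi.single j 1) =
      zornMul ((M : Matrix (Fin 8) (Fin 8) F) *ᵥ Pi.single i 1) ((M : Matrix (Fin 8) (Fin 8) F) *ᵥ Pi.single j 1)) :
    M ∈ Cfsg.Lie.G2 F := by
  have h1 : (zornB F).compr₂ (Matrix.toLin' (M : Matrix (Fin 8) (Fin 8) F)) =
      (zornB F).compl₁₂ (Matrix.toLin' (M : Matrix (Fin 8) (Fin 8) F))
        (Matrix.toLin' (M : Matrix (Fin 8) (Fin 8) F)) := by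
    refine LinearMap.ext_basis (Pi.basisFun F (Fin 8)) (Pi.basisFun F (Fin 8)) fun i j => ?_
    rw [Pi.basisFun_apply, Pi.basisFun_apply]
    exact h i j
  intro x y
  exact LinearMap.congr_fun (LinearMap.congr_fun h1 x) y

end

/-- the matrices -/
def mU : Matrix (Fin 8) (Fin 8) (ZMod 3) := !![2, 2, 1, 2, 1, 1, 2, 2; 0, 2, 0, 2, 1, 0, 2, 0; 1, 1, 2, 2, 1, 1, 1, 2; 0, 1, 2, 0, 1, 1, 0, 0; 0, 2, 1, 0, 1, 1, 0, 0; 1, 1, 2, 1, 1, 1, 2, 2; 1, 0, 2, 0, 0, 1, 0, 2; 2, 1, 2, 1, 2, 2, 1, 2]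
/-- the matrices -/
def mUi : Matrix (Fin 8) (Fin 8) (ZMod 3) := !![2, 0, 1, 1, 0, 1, 0, 2; 1, 1, 1, 0, 1, 1, 1, 2; 1, 1, 1, 1, 0, 1, 1, 2; 2, 0, 2, 0, 2, 1, 0, 1; 2, 2, 1, 0, 2, 1, 1, 1; 1, 1, 2, 2, 0, 2, 2, 2; 2, 0, 1, 0, 2, 2, 0, 1; 2, 0, 2, 2, 0, 2, 0, 2]
/-- the matrices -/
def mA : Matrix (Fin 8) (Fin 8) (ZMod 3) := !![0, 0, 0, 0, 0, 0, 0, 1; 0, 0, 0, 0, 2, 0, 0, 0; 0, 0, 0, 0, 0, 2, 0, 0; 0, 0, 0, 0, 0, 0, 2, 0; 0, 2, 0, 0, 0, 0, 0, 0; 0, 0, 2, 0, 0, 0, 0, 0; 0, 0, 0, 2, 0, 0, 0, 0; 1, 0, 0, 0, 0, 0, 0, 0]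

/-- the automorphisms -/
def gU : GL (Fin 8) (ZMod 3) := ⟨mU, mUi, by decide +kernel, by decide +kernel⟩
/-- the automorphisms -/
def gA : GL (Fin 8) (ZMod 3) := ⟨mA, mA, by decide +kernel, by decide +kernel⟩

theorem gU_mem : gU ∈ Cfsg.Lie.G2 (ZMod 3) := mem_of_basis gU (by
  change ∀ i j : Fin 8, mU *ᵥ zornMul (Pi.single i 1) (Pi.single j 1) =
      zornMul (mU *ᵥ Pi.single i 1) (mU *ᵥ Pi.single j 1)
  decide +kernel)

theorem gA_mem : gA ∈ Cfsg.Lie.G2 (ZMod 3) := mem_of_basis gA (by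
  change ∀ i j : Fin 8, mA *ᵥ zornMul (Pi.single i 1) (Pi.single j 1) =
      zornMul (mA *ᵥ Pi.single i 1) (mA *ᵥ Pi.single j 1)
  decide +kernel)

theorem frob56_G2 : Frob56 (Cfsg.Lie.G2 (ZMod 3)) := by
  let a : Cfsg.Lie.G2 (ZMod 3) := ⟨gA, gA_mem⟩
  let w : Cfsg.Lie.G2 (ZMod 3) := ⟨gU, gU_mem⟩
  have hUi : ∀ x : GL (Fin 8) (ZMod 3), (gU * x * gU⁻¹ : GL (Fin 8) (ZMod 3)).1 = mU * x.1 * mUi := fun _ => rfl
  have key : ∀ x y : GL (Fin 8) (ZMod 3), x.1 = y.1 → x = y := fun x y h => Units.ext h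
  have ha : gA * gA = 1 := Units.ext (by change mA * mA = 1; decide +kernel)
  have hab : gA * (gU * gA * gU⁻¹) = (gU * gA * gU⁻¹) * gA := Units.ext (by
    change mA * (mU * mA * mUi) = (mU * mA * mUi) * mA
    decide +kernel)
  have hac : gA * (gU * (gU * gA * gU⁻¹) * gU⁻¹) = (gU * (gU * gA * gU⁻¹) * gU⁻¹) * gA := Units.ext (by
    change mA * (mU * (mU * mA * mUi) * mUi) = (mU * (mU * mA * mUi) * mUi) * mA
    decide +kernel)
  have huc : gU * (gU * (gU * gA * gU⁻¹) * gU⁻¹) = gA * (gU * (gU * gA * gU⁻¹) * gU⁻¹) * gU := Units.ext (by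
    change mU * (mU * (mU * mA * mUi) * mUi) = mA * (mU * (mU * mA * mUi) * mUi) * mU
    decide +kernel)
  have hu7 : gU ^ 7 = 1 := by
    have h2 : (gU * gU : GL (Fin 8) (ZMod 3)).1 = mU * mU := rfl
    apply Units.ext
    have e : gU ^ 7 = (gU * gU) * (gU * gU) * (gU * gU) * gU := by
      simp only [pow_succ, pow_zero, one_mul, mul_assoc]
    rw [e]
    change (mU * mU) * (mU * mU) * (mU * mU) * mU = 1
    decide +kernel
  have h1 : gA ≠ 1 := by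
    intro h
    have h2 : mA = 1 := congrArg Units.val h
    revert h2
    decide +kernel
  have h2 : gU ≠ 1 := by
    intro h
    have h2 : mU = 1 := congrArg Units.val h
    revert h2
    decide +kernel
  have hbb : ∀ x g : Cfsg.Lie.G2 (ZMod 3), x * x = 1 → (g * x * g⁻¹) * (g * x * g⁻¹) = 1 := by
    intro x g hx
    calc (g * x * g⁻¹) * (g * x * g⁻¹) = g * (x * x) * g⁻¹ := by group
      _ = 1 := by rw [hx, mul_one, mul_inv_cancel]
  have ha' : a * a = 1 := Subtype.ext ha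
  have hab' : a * (w * a * w⁻¹) = (w * a * w⁻¹) * a := Subtype.ext hab
  refine ⟨a, w * a * w⁻¹, w * (w * a * w⁻¹) * w⁻¹, w, fun h => h1 (congrArg Subtype.val h), ha', hbb _ _ ha',
    hbb _ _ (hbb _ _ ha'), hab', Subtype.ext hac, ?_, Subtype.ext hu7, fun h => h2 (congrArg Subtype.val h),
    by group, by group, Subtype.ext huc⟩
  calc (w * a * w⁻¹) * (w * (w * a * w⁻¹) * w⁻¹) = w * (a * (w * a * w⁻¹)) * w⁻¹ := by group
    _ = w * ((w * a * w⁻¹) * a) * w⁻¹ := by rw [hab']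
    _ = w * (w * a * w⁻¹) * w⁻¹ * (w * a * w⁻¹) := by group

open Cfsg.Agent.OrdDiv in
theorem frob56_g2 {S : Type u} [Group S] (h : Real (.g2 3) S) : Frob56 S := by
  obtain ⟨F, iF, iF', hF, ⟨e⟩⟩ := h
  have hF' : Fintype.card (ZMod 3) = Fintype.card F := by rw [hF]; rfl
  let φ : ZMod 3 ≃+* F := FiniteField.ringEquivOfCardEq hF'
  have e1 : ↥(Cfsg.Lie.chevG2.group (ZMod 3)) ≃* ↥(Cfsg.Lie.chevG2.group F) :=
    Cfsg.Agent.ChevalleyStructure.FieldIso.groupEquiv Cfsg.Lie.chevG2 φ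
  obtain ⟨e2⟩ := Cfsg.Agent.H638.G2Iso.equiv (F := ZMod 3)
  exact Frob56.of_equiv ((e.trans e1.symm).trans e2.symm) frob56_G2

end Cfsg.Agent.H799.U45
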