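import Cfsg.Agent.H413.FrobLift
import Cfsg.Agent.H421.Act
import Cfsg.Agent.H799.U45.GTwo

/-!
# Frobenius subgroups of the simple section act on the chief factors of the solvable radical (helper799)

`exists_factor` : a solvable normal subgroup of order divisible by `p` has a chief section that is a `p`-group;
`frob_false` : `E : ⟨c⟩` in the simple section `S`, `E` a `p`-group, `c` of order `r`, `s` divides `|K|`, no elements of
orders `p r`, `r s`: impossible.
-/

set_option autoImplicit false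

namespace Cfsg.Agent.H799.U45

open Subgroup Cfsg.Agent.H413.FrobLift Cfsg.Agent.H421.Act

universe u

theorem exists_factor {G : Type u} [Group G] [Finite G] {p : ℕ} (hp : p.Prime) :
    ∀ (n : ℕ) (K : Subgroup G), Nat.card K = n → K.Normal → Group.IsSolvable K → p ∣ Nat.card K →
    ∃ B A : Subgroup G, B.Normal ∧ A.Normal ∧ B ≤ A ∧ A ≤ K ∧ (∀ x ∈ A, x ^ p ∈ B) ∧
      (∀ x ∈ A, ∀ y ∈ A, x * y * x⁻¹ * y⁻¹ ∈ B) ∧ ∃ x ∈ A, x ∉ B := by
  intro n
  induction n using Nat.strong_induction_on with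
  | _ n ih =>
    intro K hn hK hsol hd
    have hne : K ≠ ⊥ := by
      rintro rfl
      rw [Subgroup.card_bot] at hd
      exact hp.one_lt.ne' (Nat.dvd_one.1 hd)
    obtain ⟨K1, t, hK1, hlt, ht, -, hexp, hcomm⟩ := exists_max K hne hsol
    by_cases htp : t = p
    · subst htp
      obtain ⟨x, hx, hx'⟩ := SetLike.exists_of_lt hlt
      exact ⟨K1, K, hK1, hK, hlt.le, le_rfl, hexp, hcomm, x, hx, hx'⟩
    · have hfp : Fact p.Prime := ⟨hp⟩
      have hd1 : p ∣ Nat.card K1 := by
        obtain ⟨x, hx⟩ := exists_prime_orderOf_dvd_card' (G := K) p hd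
        have h1 : ((x : G) ^ t) ∈ K1 := hexp x x.2
        have hxo : orderOf (x : G) = p := by rw [Subgroup.orderOf_coe, hx]
        have h2 : orderOf ((x : G) ^ t) = p := by
          rw [Nat.Coprime.orderOf_pow, hxo]
          rw [hxo]
          exact (Nat.coprime_primes hp ht).2 (Ne.symm htp)
        rw [← h2, ← Subgroup.orderOf_mk _ h1]
        exact orderOf_dvd_natCard _
      have hcard : Nat.card K1 < n := by
        rw [← hn]
        have h1 := Subgroup.card_dvd_of_le hlt.le
        have h2 := Nat.le_of_dvd Nat.card_pos h1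
        refine lt_of_le_of_ne h2 fun h3 => hlt.ne ?_
        exact Subgroup.eq_of_le_of_card_ge hlt.le h3.ge
      have hsol1 : Group.IsSolvable K1 :=
        Group.isSolvable_of_isSolvable_injective (Subgroup.inclusion_injective hlt.le)
      obtain ⟨B, A, h1, h2, h3, h4, h5, h6, h7⟩ := ih _ hcard K1 rfl hK1 hsol1 hd1
      exact ⟨B, A, h1, h2, h3, h4.trans hlt.le, h5, h6, h7⟩

/-- **Frobenius subgroups of the simple section.** -/
theorem frob_false {G : Type u} [Group G] [Finite G] (K : Subgroup G) [K.Normal] (hsol : Group.IsSolvable K)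
    (S : Subgroup (G ⧸ K)) [S.Normal] (hS : IsSimpleGroup S) {p r s : ℕ} (hp : p.Prime) (hr : r.Prime)
    (hs : s.Prime) (hpr : p ≠ r) (hps : p ≠ s) (hrs : r ≠ s) (hsK : s ∣ Nat.card K)
    (n1 : ∀ g : G, orderOf g ≠ p * r) (n2 : ∀ g : G, orderOf g ≠ r * s) (E : Subgroup (G ⧸ K)) (hE : IsPGroup p E)
    (hES : E ≤ S) (hE1 : E ≠ ⊥) {c : G ⧸ K} (hc : c ∈ normalizer (E : Set (G ⧸ K))) (hcS : c ∈ S)
    (hco : orderOf c = r) : False := by
  classical
  obtain ⟨B, A, hB, hA, hBA, hAK, hexp, hcomm, x0, hx0A, hx0B⟩ := exists_factor hs _ K rfl inferInstance hsol hsK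
  have hBK : B ≤ K := hBA.trans hAK
  let f : G →* G ⧸ B := QuotientGroup.mk' B
  have hf : Function.Surjective f := QuotientGroup.mk'_surjective B
  let V : Subgroup (G ⧸ B) := A.map f
  have hVn : V.Normal := hA.map f hf
  let π : G ⧸ B →* G ⧸ K := QuotientGroup.map B K (MonoidHom.id G) hBK
  have hπ : Function.Surjective π := by
    intro y
    obtain ⟨g, rfl⟩ := QuotientGroup.mk'_surjective K y
    exact ⟨f g, rfl⟩
  have m1 : ∀ g : G ⧸ B, orderOf g ≠ p * r := by
    intro g hg
    obtain ⟨y, hy, -⟩ := orderOf_lift f hf g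
    exact n1 y (by rw [hy, hg])
  have m2 : ∀ g : G ⧸ B, orderOf g ≠ r * s := by
    intro g hg
    obtain ⟨y, hy, -⟩ := orderOf_lift f hf g
    exact n2 y (by rw [hy, hg])
  have hVc : ∀ a ∈ V, ∀ b ∈ V, a * b = b * a := by
    rintro - ⟨a, ha, rfl⟩ - ⟨b, hb, rfl⟩
    have h1 : f (a * b * a⁻¹ * b⁻¹) = 1 := (QuotientGroup.eq_one_iff _).2 (hcomm a ha b hb)
    rw [map_mul, map_mul, map_mul, map_inv, map_inv, mul_inv_eq_one, mul_inv_eq_iff_eq_mul] at h1
    exact h1
  have hVs : ∀ a ∈ V, a ^ s = 1 := by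
    rintro - ⟨a, ha, rfl⟩
    rw [← map_pow]
    exact (QuotientGroup.eq_one_iff _).2 (hexp a ha)
  have hfs : Fact s.Prime := ⟨hs⟩
  have hfp : Fact p.Prime := ⟨hp⟩
  have hv0 : orderOf (f x0) = s := by
    apply orderOf_eq_prime (hVs _ ⟨x0, hx0A, rfl⟩)
    intro h
    exact hx0B ((QuotientGroup.eq_one_iff _).1 h)
  obtain ⟨T, d, hT, hTE, hd, hdc⟩ := exists_lift π hπ hp E hE hc
  have hdr : r ∣ orderOf d := by
    rw [← hco, ← hdc]
    exact orderOf_map_dvd π d
  obtain ⟨n, hn⟩ := exists_pow_prime d hdr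
  have hcn : d ^ n ∈ normalizer (T : Set (G ⧸ B)) := pow_mem hd n
  have hTs : ¬ s ∣ Nat.card T := by
    intro h
    obtain ⟨k, hk⟩ := IsPGroup.iff_card.1 hT
    rw [hk] at h
    exact hps ((Nat.prime_dvd_prime_iff_eq hs hp).1 (hs.dvd_of_dvd_pow h)).symm
  have hfree : ∀ j, 0 < j → j < r → ∀ a ∈ T, a * (d ^ n) ^ j = (d ^ n) ^ j * a → a = 1 := by
    intro j hj hjr a ha hac
    by_contra ha1
    have h1 : p ∣ orderOf a := by
      obtain ⟨k, hk⟩ := (IsPGroup.iff_orderOf.1 hT) ⟨a, ha⟩
      rw [Subgroup.orderOf_mk] at hk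
      rcases Nat.eq_zero_or_pos k with rfl | hk0
      · rw [pow_zero] at hk
        exact absurd (orderOf_eq_one_iff.1 hk) ha1
      · rw [hk]; exact dvd_pow_self p hk0.ne'
    have h2 : r ∣ orderOf ((d ^ n) ^ j) := by
      rw [Nat.Coprime.orderOf_pow, hn]
      rw [hn]
      exact (Nat.Prime.coprime_iff_not_dvd hr).2 fun h => absurd (Nat.le_of_dvd hj h) (by omega)
    obtain ⟨g, hg⟩ := exists_mul_order (show Commute a ((d ^ n) ^ j) from hac) hp hr hpr h1 h2
    exact m1 g hg
  have hact : ∃ a ∈ T, ∃ v ∈ V, a * v ≠ v * a := by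
    by_contra hno
    push Not at hno
    let C : Subgroup (G ⧸ B) := centralizer (V : Set (G ⧸ B))
    have hCn : C.Normal := Subgroup.normal_centralizer
    have hTC : T ≤ C := by
      intro a ha
      rw [Subgroup.mem_centralizer_iff]
      intro v hv
      exact (hno a ha v hv).symm
    have hCm : (C.map π).Normal := hCn.map π hπ
    have hI : ((C.map π).subgroupOf S).Normal := inferInstance
    have hIne : (C.map π).subgroupOf S ≠ ⊥ := by
      intro h
      apply hE1
      rw [eq_bot_iff]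
      intro e he
      have he' := he
      rw [← hTE] at he'
      obtain ⟨y, hy, rfl⟩ := he'
      have h1 : (⟨π y, hES he⟩ : S) ∈ (C.map π).subgroupOf S := ⟨y, hTC hy, rfl⟩
      rw [h, Subgroup.mem_bot] at h1
      exact congrArg Subtype.val h1
    have hItop : (C.map π).subgroupOf S = ⊤ := (hI.eq_bot_or_eq_top).resolve_left hIne
    have hcC : c ∈ C.map π := by
      have h1 : (⟨c, hcS⟩ : S) ∈ (C.map π).subgroupOf S := by rw [hItop]; trivial
      exact h1
    obtain ⟨y, hy, hyc⟩ := hcC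
    have hry : r ∣ orderOf y := by
      rw [← hco, ← hyc]
      exact orderOf_map_dvd π y
    have hcm : Commute y (f x0) := ((Subgroup.mem_centralizer_iff.1 hy) _ ⟨x0, hx0A, rfl⟩).symm
    obtain ⟨g, hg⟩ := exists_mul_order hcm hr hs hrs hry (by rw [hv0])
    exact m2 g hg
  obtain ⟨g, hg⟩ := exists_order V T hs hVc hVs hTs (c := d ^ n) (n := r)
    (fun a ha => by
      have h1 := (Subgroup.mem_normalizer_iff.1 (inv_mem hcn) a).1 ha
      rwa [inv_inv] at h1)
    hr.pos (by rw [← hn, pow_orderOf_eq_one]) hfree hact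
  exact m2 g hg

/-- **A Frobenius group of order 56 in the simple section.** -/
theorem frob56_false {G : Type u} [Group G] [Finite G] (K : Subgroup G) [K.Normal] (hsol : Group.IsSolvable K)
    (S : Subgroup (G ⧸ K)) [S.Normal] (hS : IsSimpleGroup S) {s : ℕ} (hs : s.Prime) (h2s : 2 ≠ s) (h7s : 7 ≠ s)
    (hsK : s ∣ Nat.card K) (n1 : ∀ g : G, orderOf g ≠ 2 * 7) (n2 : ∀ g : G, orderOf g ≠ 7 * s) (h : Frob56 S) :
    False := by
  obtain ⟨a, b, c, w, ha1, ha, hb, hc, hab, hac, hbc, hw, hw1, hwa, hwb, hwc⟩ := h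
  have h7 : Fact (Nat.Prime 7) := ⟨by norm_num⟩
  have hcomm : ∀ x ∈ ({a, b, c} : Set S), ∀ y ∈ ({a, b, c} : Set S), x * y = y * x := by
    rintro x (rfl | rfl | rfl) y (rfl | rfl | rfl)
    · rfl
    · exact hab
    · exact hac
    · exact hab.symm
    · rfl
    · exact hbc
    · exact hac.symm
    · exact hbc.symm
    · rfl
  have hCc := Subgroup.isMulCommutative_closure hcomm
  set E : Subgroup S := closure ({a, b, c} : Set S) with hE
  have hmc : ∀ x ∈ E, ∀ y ∈ E, x * y = y * x := fun x hx y hy =>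
    congrArg Subtype.val (hCc.is_comm.comm (⟨x, hx⟩ : E) ⟨y, hy⟩)
  have hsq : ∀ e ∈ E, e * e = 1 := by
    intro e he
    induction he using Subgroup.closure_induction with
    | mem x hx =>
      rcases hx with rfl | rfl | rfl <;> assumption
    | one => exact one_mul 1
    | mul x y hx hy ihx ihy =>
      have h := hmc x hx y hy
      calc x * y * (x * y) = x * (y * x) * y := by group
        _ = x * (x * y) * y := by rw [h]
        _ = (x * x) * (y * y) := by group
        _ = 1 := by rw [ihx, ihy, one_mul]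
    | inv x hx ih => rw [← mul_inv_rev, ih, inv_one]
  have ha' : a ∈ E := subset_closure (by simp)
  have hb' : b ∈ E := subset_closure (by simp)
  have hc' : c ∈ E := subset_closure (by simp)
  have hconj : ∀ e ∈ E, w * e * w⁻¹ ∈ E := by
    intro e he
    induction he using Subgroup.closure_induction with
    | mem x hx =>
      rcases hx with rfl | rfl | rfl
      · rw [hwa, mul_inv_cancel_right]; exact hb'
      · rw [hwb, mul_inv_cancel_right]; exact hc'
      · rw [hwc, mul_inv_cancel_right]; exact mul_mem ha' hc'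
    | one => rw [mul_one, mul_inv_cancel]; exact one_mem E
    | mul x y hx hy ihx ihy =>
      have e1 : w * (x * y) * w⁻¹ = (w * x * w⁻¹) * (w * y * w⁻¹) := by group
      rw [e1]; exact mul_mem ihx ihy
    | inv x hx ih =>
      have e1 : w * x⁻¹ * w⁻¹ = (w * x * w⁻¹)⁻¹ := by group
      rw [e1]; exact inv_mem ih
  have hwo : orderOf w = 7 := orderOf_eq_prime hw hw1
  refine frob_false K hsol S hS (p := 2) (r := 7) (s := s) Nat.prime_two (by norm_num) hs (by norm_num) h2s h7s hsK n1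
    n2 (E.map S.subtype) ?_ ?_ ?_ (c := (w : G ⧸ K)) ?_ w.2 (by rw [Subgroup.orderOf_coe, hwo])
  · intro ⟨e, he⟩
    refine ⟨1, Subtype.ext ?_⟩
    obtain ⟨e', he', rfl⟩ := he
    change (S.subtype e') ^ (2 ^ 1) = 1
    rw [← map_pow, pow_one, pow_two, hsq e' he', map_one]
  · rintro - ⟨e, -, rfl⟩
    exact e.2
  · intro h
    rw [Subgroup.map_eq_bot_iff_of_injective _ S.subtype_injective] at h
    rw [h, Subgroup.mem_bot] at ha'
    exact ha1 ha'
  · apply mem_normalizer_fintype
    rintro - ⟨e, he, rfl⟩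
    exact ⟨w * e * w⁻¹, hconj e he, rfl⟩

end Cfsg.Agent.H799.U45
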