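import Cfsg.Agent.H799.U45.RowsB
import Cfsg.Agent.H379.J2Spec
import Cfsg.Agent.UGT.U2.Rec.Congr
import Cfsg.Agent.CpAutTits.Row

/-!
# Noncyclic abelian subgroups of some simple groups, II (helper799)
-/

set_option autoImplicit false

namespace Cfsg.Agent.H799.U45

open Cfsg Cfsg.Agent.OrdDiv Cfsg.Agent.H421.Rows Cfsg.Agent.LieClassical.FieldTransfer Matrix

universe u

variable {S : Type u} [Group S]

/-! ### `PΩ⁺₈(2)` -/

section

open Cfsg.Agent.H422.Elim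

/-- elements of `GL₄(2)` -/
def lA : GL (Fin 4) K2 := ⟨!![0, 1, 0, 0; 1, 1, 0, 0; 0, 0, 1, 0; 0, 0, 0, 1],
  !![1, 1, 0, 0; 1, 0, 0, 0; 0, 0, 1, 0; 0, 0, 0, 1], by decide +kernel, by decide +kernel⟩
/-- elements of `GL₄(2)` -/
def lB : GL (Fin 4) K2 := ⟨!![1, 0, 0, 0; 0, 1, 0, 0; 0, 0, 0, 1; 0, 0, 1, 1],
  !![1, 0, 0, 0; 0, 1, 0, 0; 0, 0, 1, 1; 0, 0, 1, 0], by decide +kernel, by decide +kernel⟩
/-- elements of `GL₄(2)` -/
def lTA : GL (Fin 4) K2 := ⟨!![0, 1, 0, 0; 1, 0, 0, 0; 0, 0, 1, 0; 0, 0, 0, 1],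
  !![0, 1, 0, 0; 1, 0, 0, 0; 0, 0, 1, 0; 0, 0, 0, 1], by decide +kernel, by decide +kernel⟩
/-- elements of `GL₄(2)` -/
def lTB : GL (Fin 4) K2 := ⟨!![1, 0, 0, 0; 0, 1, 0, 0; 0, 0, 0, 1; 0, 0, 1, 0],
  !![1, 0, 0, 0; 0, 1, 0, 0; 0, 0, 0, 1; 0, 0, 1, 0], by decide +kernel, by decide +kernel⟩
/-- elements of `GL₄(2)` -/
def lK : GL (Fin 4) K2 := ⟨!![1, 0, 0, 0; 0, 0, 1, 0; 0, 1, 0, 0; 0, 0, 0, 1],
  !![1, 0, 0, 0; 0, 0, 1, 0; 0, 1, 0, 0; 0, 0, 0, 1], by decide +kernel, by decide +kernel⟩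

theorem comm_A : lTA * lA * lTA⁻¹ * lA⁻¹ = lA := by
  rw [mul_inv_eq_iff_eq_mul, mul_inv_eq_iff_eq_mul]
  decide +kernel

theorem comm_B : lTB * lB * lTB⁻¹ * lB⁻¹ = lB := by
  rw [mul_inv_eq_iff_eq_mul, mul_inv_eq_iff_eq_mul]
  decide +kernel

theorem levi_mem_A : levi 4 K2 lA ∈ Omega K2 (quadFormPlus 4 K2) := by
  rw [← comm_A, map_mul, map_mul, map_mul, map_inv, map_inv]
  exact Subgroup.commutator_mem_commutator (Subgroup.mem_top _) (Subgroup.mem_top _)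

theorem levi_mem_B : levi 4 K2 lB ∈ Omega K2 (quadFormPlus 4 K2) := by
  rw [← comm_B, map_mul, map_mul, map_mul, map_inv, map_inv]
  exact Subgroup.commutator_mem_commutator (Subgroup.mem_top _) (Subgroup.mem_top _)

/-- elements of `Ω⁺₈(2)` -/
def oA : Omega K2 (quadFormPlus 4 K2) := ⟨levi 4 K2 lA, levi_mem_A⟩
/-- elements of `Ω⁺₈(2)` -/
def oB : Omega K2 (quadFormPlus 4 K2) := ⟨levi 4 K2 lB, levi_mem_B⟩
/-- elements of `Ω⁺₈(2)` -/
def oKA : Omega K2 (quadFormPlus 4 K2) :=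
  ⟨levi 4 K2 lK * levi 4 K2 lA * (levi 4 K2 lK)⁻¹, Subgroup.Normal.conj_mem inferInstance _ levi_mem_A _⟩

theorem lA_pow : lA ^ 3 = 1 := Units.ext (by
  rw [Units.val_pow_eq_pow_val]
  change (!![0, 1, 0, 0; 1, 1, 0, 0; 0, 0, 1, 0; 0, 0, 0, 1] : Matrix (Fin 4) (Fin 4) K2) ^ 3 = 1
  decide +kernel)

theorem lB_pow : lB ^ 3 = 1 := Units.ext (by
  rw [Units.val_pow_eq_pow_val]
  change (!![1, 0, 0, 0; 0, 1, 0, 0; 0, 0, 0, 1; 0, 0, 1, 1] : Matrix (Fin 4) (Fin 4) K2) ^ 3 = 1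
  decide +kernel)

theorem lAB : lA * lB = lB * lA := by decide +kernel

theorem ne_A : lA * (lK * lA * lK⁻¹) ≠ (lK * lA * lK⁻¹) * lA := by decide +kernel

theorem ne_AB : ∀ k < 3, (lA ^ k * lB) * (lK * lA * lK⁻¹) ≠ (lK * lA * lK⁻¹) * (lA ^ k * lB) := by decide +kernel

theorem oplus42 : Pair 3 (POmega K2 (quadFormPlus 4 K2)) := by
  refine pair_mk (by norm_num) (x := oA) (y := oB) (u := oKA) (v := oKA) ?_ ?_ ?_ ?_ ?_
  · apply Subtype.ext
    rw [SubmonoidClass.coe_pow]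
    exact (map_pow _ _ _).symm.trans ((congrArg (levi 4 K2) lA_pow).trans (map_one _))
  · apply Subtype.ext
    rw [SubmonoidClass.coe_pow]
    exact (map_pow _ _ _).symm.trans ((congrArg (levi 4 K2) lB_pow).trans (map_one _))
  · apply Subtype.ext
    exact (map_mul _ _ _).symm.trans ((congrArg (levi 4 K2) lAB).trans (map_mul _ _ _))
  · intro h
    have h1 := congrArg Subtype.val h
    simp only [Subgroup.coe_mul, oA, oKA] at h1
    rw [← map_inv, ← map_mul, ← map_mul, ← map_mul, ← map_mul] at h1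
    exact ne_A (levi_inj h1)
  · intro k hk h
    have h1 := congrArg Subtype.val h
    simp only [Subgroup.coe_mul, SubmonoidClass.coe_pow, oA, oB, oKA] at h1
    rw [← map_pow, ← map_inv, ← map_mul, ← map_mul, ← map_mul, ← map_mul, ← map_mul] at h1
    exact ne_AB k hk (levi_inj h1)

theorem oplus_four_2 (h : Real (.oplus 4 2) S) : Pair 3 S := by
  obtain ⟨F, iF, iF', hF, ⟨e⟩⟩ := h
  have σ : F ≃+* ZMod 2 := FiniteField.ringEquivOfCardEq (hF.trans (ZMod.card 2).symm)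
  obtain ⟨e'⟩ := Cfsg.Agent.UGT.U2.Rec.Congr.nonempty_POmega σ (Q := quadFormPlus 4 F)
    (Q' := quadFormPlus 4 (ZMod 2)) (fun v => by simp [quadFormPlus, map_sum, map_mul])
  exact oplus42.of_equiv (e.trans e')

end

/-! ### `J₂` -/

theorem j2 [Finite S] (h25 : 5 ^ 2 ∣ Nat.card S) (h : Real .j2 S) : Pair 5 S := by
  obtain ⟨e⟩ := h
  refine pair_of_no_sq (by norm_num) h25 fun g hg => ?_
  have h1 : (5 ^ 2 : ℕ) ∈ Set.range (orderOf : Cfsg.Spor.J2 → ℕ) := ⟨e g, by rw [MulEquiv.orderOf_eq, hg]⟩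
  rw [Cfsg.Agent.H379.J2Spec.range_J2] at h1
  revert h1
  simp

/-! ### The Tits group -/

theorem Pair.congr {r : ℕ} {X : Type*} {Y : Type*} [Group X] (h : Pair r X) [Group Y] (e : X ≃* Y) : Pair r Y :=
  h.map e.toMonoidHom e.injective

section

open Cfsg.Agent.Omega.TwoF.Tits Cfsg.Agent.Omega.TwoF.Scalar Cfsg.Agent.Omega.TwoF.Orb
  Cfsg.Agent.ChevalleyStructure.Tits.Main

theorem pair_C0 : Pair 5 C := by
  refine pair_of_card (by norm_num) (Cfsg.Agent.CpAutTits.Fus.P)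
    (Cfsg.Agent.CpAutTits.Fus.card_P.trans (by norm_num)) ?_
  intro g hg h
  have h1 := (elem_grp two).pow g hg
  have h2 := orderOf_dvd_of_pow_eq_one h1
  rw [h] at h2
  revert h2
  decide

theorem pair_C {X : Type} [Group X] (e : C ≃* X) : Pair 5 X := by
  have h1 := pair_C0
  exact h1.congr e

end

theorem pair_TT_aux (K : Subgroup (Matrix.GeneralLinearGroup Cfsg.Agent.ChevalleyStructure.Tits.Mat.I52 (ZMod 2)))
    (hK : K = Cfsg.Agent.ChevalleyStructure.Tits.Order.H0)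
    (e : Nonempty (↥(_root_.commutator K) ≃* ↥Cfsg.Agent.TitsK.TT)) : Pair 5 ↥Cfsg.Agent.TitsK.TT := by
  subst hK
  obtain ⟨e⟩ := e
  exact pair_C e

theorem pair_TT : Pair 5 ↥Cfsg.Agent.TitsK.TT :=
  pair_TT_aux (Cfsg.Lie.twistedF4 (ZMod 2) 1) Cfsg.Agent.ChevalleyStructure.Tits.Main.T0_eq_H0
    Cfsg.Agent.TitsK.exists_equiv

theorem tits (h : Real .tits S) : Pair 5 S := by
  obtain ⟨e⟩ := Cfsg.Agent.CpAutTits.Row.exists_equiv h
  have h1 := pair_TT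
  exact h1.congr e.symm

/-! ### `PSL₄(3)` -/

section

local instance fact_three' : Fact (Nat.Prime 3) := ⟨by norm_num⟩

/-- matrices for `PSL₄(3)` -/
def dM : Matrix (Fin 4) (Fin 4) (ZMod 3) := !![1, 0, 0, 0; 0, 1, 0, 0; 0, 0, 2, 0; 0, 0, 0, 2]
/-- matrices for `PSL₄(3)` -/
def eM : Matrix (Fin 4) (Fin 4) (ZMod 3) := !![1, 0, 0, 0; 0, 2, 0, 0; 0, 0, 1, 0; 0, 0, 0, 2]
/-- matrices for `PSL₄(3)` -/
def fM : Matrix (Fin 4) (Fin 4) (ZMod 3) := !![0, 1, 0, 0; 1, 0, 0, 0; 0, 0, 0, 1; 0, 0, 1, 0]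

/-- elements of `SL₄(3)` -/
def dS : Matrix.SpecialLinearGroup (Fin 4) (ZMod 3) := ⟨dM, by decide +kernel⟩
/-- elements of `SL₄(3)` -/
def eS : Matrix.SpecialLinearGroup (Fin 4) (ZMod 3) := ⟨eM, by decide +kernel⟩
/-- elements of `SL₄(3)` -/
def fS : Matrix.SpecialLinearGroup (Fin 4) (ZMod 3) := ⟨fM, by decide +kernel⟩

theorem mk_eq_of_neg {x y : Matrix.SpecialLinearGroup (Fin 4) (ZMod 3)} (h : x.1 = -y.1) :
    (QuotientGroup.mk x : Matrix.ProjectiveSpecialLinearGroup (Fin 4) (ZMod 3)) = QuotientGroup.mk y := by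
  rw [QuotientGroup.eq, Matrix.SpecialLinearGroup.mem_center_iff]
  refine ⟨-1, by decide, ?_⟩
  have h1 : (x⁻¹ * y).1 = -1 := by
    have h2 : (x⁻¹ * x).1 = 1 := by rw [inv_mul_cancel]; rfl
    rw [Matrix.SpecialLinearGroup.coe_mul] at h2 ⊢
    have h3 : (y : Matrix (Fin 4) (Fin 4) (ZMod 3)) = - x.1 := by
      rw [h, neg_neg]
    change (x⁻¹).1 * y.1 = -1
    rw [h3, Matrix.mul_neg]
    rw [show (x⁻¹).1 * x.1 = 1 from h2]
  rw [h1]
  decide +kernel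

theorem psl43 : Big (Matrix.ProjectiveSpecialLinearGroup (Fin 4) (ZMod 3)) := by
  have hne : ∀ A : Matrix.SpecialLinearGroup (Fin 4) (ZMod 3), (∀ r : ZMod 3, Matrix.scalar (Fin 4) r ≠ A.1) →
      (QuotientGroup.mk A : Matrix.ProjectiveSpecialLinearGroup (Fin 4) (ZMod 3)) ≠ 1 := fun A h => not_center h
  have hsq : ∀ A : Matrix.SpecialLinearGroup (Fin 4) (ZMod 3), A.1 * A.1 = 1 →
      (QuotientGroup.mk A : Matrix.ProjectiveSpecialLinearGroup (Fin 4) (ZMod 3)) * QuotientGroup.mk A = 1 := by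
    intro A h
    rw [← QuotientGroup.mk_mul, show A * A = 1 from Subtype.ext h, QuotientGroup.mk_one]
  have hd := hsq dS (by change dM * dM = 1; decide +kernel)
  have he := hsq eS (by change eM * eM = 1; decide +kernel)
  have hf := hsq fS (by change fM * fM = 1; decide +kernel)
  have hne2 : ∀ A B : Matrix.SpecialLinearGroup (Fin 4) (ZMod 3),
      (QuotientGroup.mk A : Matrix.ProjectiveSpecialLinearGroup (Fin 4) (ZMod 3)) * QuotientGroup.mk A = 1 →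
      (∀ r : ZMod 3, Matrix.scalar (Fin 4) r ≠ (A * B).1) →
      (QuotientGroup.mk A : Matrix.ProjectiveSpecialLinearGroup (Fin 4) (ZMod 3)) ≠ QuotientGroup.mk B := by
    intro A B h1 h2 h3
    apply hne (A * B) h2
    rw [QuotientGroup.mk_mul, ← h3, h1]
  refine big_of (a := QuotientGroup.mk dS) (b := QuotientGroup.mk eS) (c := QuotientGroup.mk fS) hd he hf ?_ ?_ ?_ ?_ ?_
    ?_ ?_ ?_ ?_ ?_
  · rw [← QuotientGroup.mk_mul, ← QuotientGroup.mk_mul]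
    congr 1
    apply Subtype.ext
    change dM * eM = eM * dM
    decide +kernel
  · rw [← QuotientGroup.mk_mul, ← QuotientGroup.mk_mul]
    congr 1
    apply Subtype.ext
    change dM * fM = fM * dM
    decide +kernel
  · rw [← QuotientGroup.mk_mul, ← QuotientGroup.mk_mul]
    apply mk_eq_of_neg
    change eM * fM = -(fM * eM)
    decide +kernel
  · apply hne
    change ∀ r : ZMod 3, Matrix.scalar (Fin 4) r ≠ dM
    decide +kernel
  · apply hne
    change ∀ r : ZMod 3, Matrix.scalar (Fin 4) r ≠ eM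
    decide +kernel
  · apply hne2 _ _ hd
    change ∀ r : ZMod 3, Matrix.scalar (Fin 4) r ≠ dM * eM
    decide +kernel
  · apply hne
    change ∀ r : ZMod 3, Matrix.scalar (Fin 4) r ≠ fM
    decide +kernel
  · apply hne2 _ _ hf
    change ∀ r : ZMod 3, Matrix.scalar (Fin 4) r ≠ fM * dM
    decide +kernel
  · apply hne2 _ _ hf
    change ∀ r : ZMod 3, Matrix.scalar (Fin 4) r ≠ fM * eM
    decide +kernel
  · rw [← QuotientGroup.mk_mul]
    apply hne2 _ _ hf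
    change ∀ r : ZMod 3, Matrix.scalar (Fin 4) r ≠ fM * (dM * eM)
    decide +kernel

theorem psl_four_3 (h : Real (.psl 4 3) S) : Big S := by
  obtain ⟨F, iF, iF', hF, ⟨e⟩⟩ := h
  let e2 : Matrix.ProjectiveSpecialLinearGroup (Fin 4) (ZMod 3) ≃* Matrix.ProjectiveSpecialLinearGroup (Fin 4) F :=
    pslCongr (FiniteField.ringEquivOfCardEq (K := ZMod 3) (K' := F) (by rw [hF, ZMod.card]))
  exact psl43.of_equiv (e.trans e2.symm)

end

end Cfsg.Agent.H799.U45
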