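import Cfsg.Agent.H799.U45.Chief

/-!
# The solvable radical centralizes its chief factors (helper799)

`centralizes` : `K` solvable normal, `S` simple normal in `G ⧸ K`, `M / N` a `G`-chief factor of `K` of characteristic `t`;
`s` divides `|S|`, not `|K|`, no elements of order `s t`; for every prime `r` dividing `|K|` some prime `q` dividing `|S|`
is not adjacent to `r`. Then `K` centralizes `M / N`.
-/

set_option autoImplicit false

namespace Cfsg.Agent.H799.U45

open Subgroup Cfsg.Agent.H421.Act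

universe u

/-- a coprime automorphism of an elementary abelian group acting trivially on a module for the commutators -/
theorem commute_of_module {X : Type u} [Group X] [Finite X] {V : Type*} [AddCommGroup V]
    (ρ : X →* AddMonoid.End V) (A : Subgroup X) [hAn : A.Normal] {r s t : ℕ} (hr : r.Prime) (hs : s.Prime)
    (ht : t.Prime) (hrs : r ≠ s) (hrt : r ≠ t) (hAc : ∀ a ∈ A, ∀ b ∈ A, a * b = b * a) (hAe : ∀ a ∈ A, a ^ r = 1)
    (hVt : ∀ v : V, t • v = 0) (hfaith : ∀ a ∈ A, (∀ v, ρ a v = v) → a = 1) {z : X} (hz : orderOf z = s)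
    (hV : ∀ v, ρ z v = v → v = 0) : ∀ a ∈ A, z * a = a * z := by
  classical
  let _ : CommGroup A := { (inferInstance : Group A) with
    mul_comm := fun a b => Subtype.ext (hAc a a.2 b b.2) }
  let ψ : A →* A :=
    { toFun := fun a => ⟨z * a * z⁻¹, hAn.conj_mem a a.2 z⟩ * a⁻¹
      map_one' := by
        apply Subtype.ext
        change z * 1 * z⁻¹ * 1⁻¹ = 1
        group
      map_mul' := by
        intro a b
        have h1 : (⟨z * (a * b : A) * z⁻¹, hAn.conj_mem _ (a * b).2 z⟩ : A) =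
            ⟨z * a * z⁻¹, hAn.conj_mem a a.2 z⟩ * ⟨z * b * z⁻¹, hAn.conj_mem b b.2 z⟩ := by
          apply Subtype.ext
          change z * (a * b) * z⁻¹ = (z * a * z⁻¹) * (z * b * z⁻¹)
          group
        rw [h1, mul_inv]
        exact mul_mul_mul_comm _ _ _ _ }
  have hψ : ∀ a : A, ((ψ a : A) : X) = z * a * z⁻¹ * (a : X)⁻¹ := fun a => rfl
  let B : Subgroup X := ψ.range.map A.subtype
  have hB : ∀ b ∈ B, ∃ a : A, b = z * a * z⁻¹ * (a : X)⁻¹ := by
    rintro _ ⟨_, ⟨a, rfl⟩, rfl⟩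
    exact ⟨a, rfl⟩
  have hBA : B ≤ A := by
    rintro _ ⟨b, -, rfl⟩
    exact b.2
  have hzB : ∀ b ∈ B, z * b * z⁻¹ ∈ B := by
    intro b hb
    obtain ⟨a, rfl⟩ := hB b hb
    refine ⟨ψ ⟨z * a * z⁻¹, hAn.conj_mem a a.2 z⟩, ⟨_, rfl⟩, ?_⟩
    change z * (z * a * z⁻¹) * z⁻¹ * (z * a * z⁻¹)⁻¹ = _
    group
  have hfix : ∀ i, 0 < i → i < s → ∀ b ∈ B, z ^ i * b = b * z ^ i → b = 1 := by
    intro i hi his b hb hc
    have hcop : Nat.Coprime i (orderOf z) := by
      rw [hz, Nat.coprime_comm]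
      exact (Nat.Prime.coprime_iff_not_dvd hs).2 fun h => absurd (Nat.le_of_dvd hi h) (by omega)
    obtain ⟨m, hm⟩ := exists_pow_eq_self_of_coprime hcop
    have hzb : Commute z b := by
      rw [← hm]
      exact (show Commute (z ^ i) b from hc).pow_left m
    obtain ⟨a, ha⟩ := hB b hb
    have h1 : z * a * z⁻¹ = b * a := by rw [ha]; group
    have h2 : ∀ k : ℕ, z ^ k * a * (z ^ k)⁻¹ = b ^ k * a := by
      intro k
      induction k with
      | zero => simp
      | succ k ih =>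
        calc z ^ (k + 1) * a * (z ^ (k + 1))⁻¹ = z * (z ^ k * a * (z ^ k)⁻¹) * z⁻¹ := by rw [pow_succ']; group
          _ = z * (b ^ k * a) * z⁻¹ := by rw [ih]
          _ = (z * b ^ k) * a * z⁻¹ := by group
          _ = (b ^ k * z) * a * z⁻¹ := by rw [(hzb.pow_right k).eq]
          _ = b ^ k * (z * a * z⁻¹) := by group
          _ = b ^ (k + 1) * a := by rw [h1, pow_succ]; group
    have h3 := h2 s
    rw [show z ^ s = 1 by rw [← hz, pow_orderOf_eq_one], one_mul, inv_one, mul_one] at h3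
    have h4 : b ^ s = 1 := (mul_eq_right.1 h3.symm)
    have h5 : b ^ r = 1 := hAe b (hBA hb)
    have h6 := Nat.eq_one_of_dvd_coprimes ((Nat.coprime_primes hr hs).2 hrs) (orderOf_dvd_of_pow_eq_one h5)
      (orderOf_dvd_of_pow_eq_one h4)
    exact orderOf_eq_one_iff.1 h6
  have hBp : IsPGroup r B := fun b => ⟨1, Subtype.ext (by
    rw [pow_one]
    exact hAe b (hBA b.2))⟩
  have hfr : Fact r.Prime := ⟨hr⟩
  obtain ⟨n, hn⟩ := IsPGroup.iff_card.1 hBp
  have hcop : ∀ v : V, Nat.card B • v = 0 → v = 0 := by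
    intro v hv
    have h1 : addOrderOf v ∣ r ^ n := by rw [← hn]; exact addOrderOf_dvd_of_nsmul_eq_zero hv
    have h2 : addOrderOf v ∣ t := addOrderOf_dvd_of_nsmul_eq_zero (hVt v)
    have h3 := Nat.eq_one_of_dvd_coprimes (Nat.Coprime.pow_left n ((Nat.coprime_primes hr ht).2 hrt)) h1 h2
    exact AddMonoid.addOrderOf_eq_one_iff.1 h3
  have htriv := frob_trivial ρ B z s hs.pos (by rw [← hz, pow_orderOf_eq_one]) hzB hfix hV hcop
  intro a ha
  have h1 : z * a * z⁻¹ * a⁻¹ ∈ B := ⟨ψ ⟨a, ha⟩, ⟨_, rfl⟩, rfl⟩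
  have h2 := hfaith _ (hBA h1) (htriv _ h1)
  rw [mul_inv_eq_one, mul_inv_eq_iff_eq_mul] at h2
  exact h2

/-- **`K` centralizes its chief factors.** -/
theorem centralizes {G : Type u} [Group G] [Finite G] (K : Subgroup G) [hK : K.Normal] (hsol : Group.IsSolvable K)
    (S : Subgroup (G ⧸ K)) [S.Normal] (hS : IsSimpleGroup S) {N M : Subgroup G} {t : ℕ} (h : Chief N M t)
    (hMK : M ≤ K) {s : ℕ} (hs : s.Prime) (hst : s ≠ t) (hsK : ¬ s ∣ Nat.card K) (hsS : s ∣ Nat.card S)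
    (hno : ∀ g : G, orderOf g ≠ s * t)
    (hq : ∀ r : ℕ, r.Prime → r ∣ Nat.card K → ∃ q : ℕ, q.Prime ∧ q ≠ r ∧ q ∣ Nat.card S ∧
      ∀ g : G, orderOf g ≠ q * r) :
    ∀ k ∈ K, ∀ m ∈ M, k * m * k⁻¹ * m⁻¹ ∈ N := by
  classical
  obtain ⟨hN, hM, hWn, hab, hexp, hWne⟩ := h.facts
  let f := QuotientGroup.mk' N
  let C : Subgroup G := K ⊓ (centralizer ((M.map f : Subgroup (G ⧸ N)) : Set (G ⧸ N))).comap f
  have hcn : (centralizer ((M.map f : Subgroup (G ⧸ N)) : Set (G ⧸ N))).Normal := Subgroup.normal_centralizer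
  have hCn : C.Normal := inferInstance
  have hmem : ∀ k : G, (∀ m ∈ M, k * m * k⁻¹ * m⁻¹ ∈ N) ↔
      k ∈ (centralizer ((M.map f : Subgroup (G ⧸ N)) : Set (G ⧸ N))).comap f := by
    intro k
    have e1 : ∀ m : G, (k * m * k⁻¹ * m⁻¹ ∈ N) ↔ f k * f m = f m * f k := by
      intro m
      rw [← QuotientGroup.eq_one_iff]
      change f (k * m * k⁻¹ * m⁻¹) = 1 ↔ _
      rw [map_mul, map_mul, map_mul, map_inv, map_inv, mul_inv_eq_one, mul_inv_eq_iff_eq_mul]
    rw [Subgroup.mem_comap, Subgroup.mem_centralizer_iff]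
    constructor
    · rintro hk _ ⟨m, hm, rfl⟩
      exact ((e1 m).1 (hk m hm)).symm
    · intro hk m hm
      exact (e1 m).2 (hk _ ⟨m, hm, rfl⟩).symm
  have hcentC : ∀ k ∈ C, ∀ m ∈ M, k * m * k⁻¹ * m⁻¹ ∈ N := fun k hk => (hmem k).2 hk.2
  have hMC : M ≤ C := fun x hx => ⟨hMK hx, (hmem x).1 fun m hm => h.comm x hx m hm⟩
  have hNC : N ≤ C := h.lt.le.trans hMC
  by_contra hcon
  have hCK : C < K := by
    refine lt_of_le_of_ne inf_le_left fun hCK => hcon ?_
    intro k hk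
    rw [← hCK] at hk
    exact hcentC k hk
  obtain ⟨A, r, hAK, hA⟩ := exists_min C K hCK hsol
  obtain ⟨V, i1, i2, i3, ρ, hVt, hfpf, -, hfaith, hirr⟩ := rep h C hNC hcentC
  let f' := QuotientGroup.mk' C
  have hf's : Function.Surjective f' := QuotientGroup.mk'_surjective C
  let Ab : Subgroup (G ⧸ C) := A.map f'
  have hAn : A.Normal := hA.nM
  obtain ⟨hAbn, hAbc, hAbe, hAbne⟩ : Ab.Normal ∧ (∀ a ∈ Ab, ∀ b ∈ Ab, a * b = b * a) ∧ (∀ a ∈ Ab, a ^ r = 1) ∧
      Ab ≠ ⊥ := by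
    obtain ⟨i5, i6, h7⟩ := hA.facts
    exact h7
  have hr := hA.prime
  have ht := h.prime
  have hfr : Fact r.Prime := ⟨hr⟩
  have hft : Fact t.Prime := ⟨ht⟩
  have hfaith' : ∀ a ∈ Ab, (∀ v, ρ a v = v) → a = 1 := by
    rintro _ ⟨a, ha, rfl⟩ hv
    refine (QuotientGroup.eq_one_iff a).2 ?_
    exact ⟨hAK ha, (hmem a).1 (hfaith a hv)⟩
  have hnt : Nontrivial Ab := (Subgroup.nontrivial_iff_ne_bot Ab).2 hAbne
  obtain ⟨⟨a0, ha0⟩, hne0⟩ := exists_ne (1 : Ab)
  have ha01 : a0 ≠ 1 := fun h => hne0 (Subtype.ext h)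
  have ho0 : orderOf a0 = r := orderOf_eq_prime (hAbe a0 ha0) ha01
  have hrK : r ∣ Nat.card K := by
    obtain ⟨x, hx, hxa⟩ := ha0
    have h1 : r ∣ orderOf x := by rw [← ho0, ← hxa]; exact orderOf_map_dvd f' x
    refine h1.trans ?_
    rw [← Subgroup.orderOf_mk x (hAK hx)]
    exact orderOf_dvd_natCard _
  -- `r ≠ t`
  have hrt : r ≠ t := by
    intro hrt
    let _ : MulAction Ab V :=
      { smul := fun a v => ρ (a : G ⧸ C) v
        one_smul := fun v => by
          change ρ ((1 : Ab) : G ⧸ C) v = v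
          rw [Subgroup.coe_one, map_one]; rfl
        mul_smul := fun a b v => by
          change ρ ((a * b : Ab) : G ⧸ C) v = ρ (a : G ⧸ C) (ρ (b : G ⧸ C) v)
          rw [Subgroup.coe_mul, map_mul]; rfl }
    have hsm : ∀ (a : Ab) (v : V), a • v = ρ (a : G ⧸ C) v := fun _ _ => rfl
    have hp : IsPGroup t Ab := fun a => ⟨1, Subtype.ext (by
      rw [pow_one, ← hrt]
      exact hAbe a a.2)⟩
    have hdV : t ∣ Nat.card V := by
      obtain ⟨v, hv⟩ := exists_ne (0 : V)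
      have h1 : addOrderOf v = t := addOrderOf_eq_prime (hVt v) hv
      rw [← h1]
      exact addOrderOf_dvd_natCard v
    obtain ⟨v0, hv0, hne⟩ := hp.exists_fixed_point_of_prime_dvd_card_of_fixed_point V hdV (a := 0) (by
      intro a
      rw [hsm, map_zero])
    let F : AddSubgroup V :=
      { carrier := {v | ∀ a ∈ Ab, ρ a v = v}
        zero_mem' := fun a _ => map_zero _
        add_mem' := fun {v w} hv hw a ha => by rw [map_add, hv a ha, hw a ha]
        neg_mem' := fun {v} hv a ha => by rw [map_neg, hv a ha] }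
    have hFv : v0 ∈ F := fun a ha => hv0 ⟨a, ha⟩
    have hFi : ∀ x : G ⧸ C, ∀ v ∈ F, ρ x v ∈ F := by
      intro x v hv a ha
      have h1 : x⁻¹ * a * x ∈ Ab := by
        have := hAbn.conj_mem a ha x⁻¹
        rwa [inv_inv] at this
      have h2 := hv _ h1
      have h3 : ρ a (ρ x v) = ρ (a * x) v := by rw [map_mul]; rfl
      have h4 : a * x = x * (x⁻¹ * a * x) := by group
      rw [h3, h4, map_mul]
      change ρ x (ρ (x⁻¹ * a * x) v) = ρ x v
      rw [h2]
    rcases hirr F hFi with h1 | h1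
    · rw [h1] at hFv
      exact hne (AddSubgroup.mem_bot.1 hFv).symm
    · apply ha01
      apply hfaith' a0 ha0
      intro v
      have h2 : v ∈ F := by rw [h1]; trivial
      exact h2 a0 ha0
  have hrs : r ≠ s := by
    rintro rfl
    exact hsK hrK
  -- elements of order `s` centralize `A / C`
  have hD1 : ∀ z : G ⧸ C, orderOf z = s → ∀ a ∈ Ab, z * a = a * z := fun z hz =>
    commute_of_module ρ Ab hr hs ht hrs hrt hAbc hAbe hVt hfaith' hz (hfpf s hs hst hno z hz)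
  let D : Subgroup (G ⧸ C) := centralizer (Ab : Set (G ⧸ C))
  have hDn : D.Normal := Subgroup.normal_centralizer
  let π : G ⧸ C →* G ⧸ K := QuotientGroup.map C K (MonoidHom.id G) inf_le_left
  have hπ : Function.Surjective π := by
    intro y
    obtain ⟨g, rfl⟩ := QuotientGroup.mk'_surjective K y
    exact ⟨f' g, rfl⟩
  have hDπ : (D.map π).Normal := hDn.map π hπ
  have hI : ((D.map π).subgroupOf S).Normal := inferInstance
  have hfs : Fact s.Prime := ⟨hs⟩
  obtain ⟨x, hx⟩ := exists_prime_orderOf_dvd_card' (G := S) s hsS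
  have hIne : (D.map π).subgroupOf S ≠ ⊥ := by
    intro hI0
    obtain ⟨y, hy⟩ := hπ (x : G ⧸ K)
    have h1 : s ∣ orderOf y := by
      rw [← hx, ← Subgroup.orderOf_coe, ← hy]
      exact orderOf_map_dvd π y
    obtain ⟨m, hm⟩ := exists_pow_prime y h1
    have h2 : y ^ m ∈ D := by
      rw [Subgroup.mem_centralizer_iff]
      intro a ha
      exact (hD1 _ hm a ha).symm
    have h3 : x ^ m ∈ (D.map π).subgroupOf S := ⟨y ^ m, h2, by rw [map_pow, hy]; rfl⟩
    rw [hI0, Subgroup.mem_bot] at h3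
    have h4 : π (y ^ m) = 1 := by
      rw [map_pow, hy]
      exact congrArg Subtype.val h3
    obtain ⟨g, hg⟩ := hf's (y ^ m)
    have h5 : g ∈ K := by
      rw [← hg] at h4
      exact (QuotientGroup.eq_one_iff g).1 h4
    apply hsK
    have h6 : s ∣ orderOf g := by rw [← hm, ← hg]; exact orderOf_map_dvd f' g
    refine h6.trans ?_
    rw [← Subgroup.orderOf_mk g h5]
    exact orderOf_dvd_natCard _
  have hItop : (D.map π).subgroupOf S = ⊤ := (hI.eq_bot_or_eq_top).resolve_left hIne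
  obtain ⟨q, hqp, hqr, hqS, hqno⟩ := hq r hr hrK
  have hfq : Fact q.Prime := ⟨hqp⟩
  obtain ⟨w, hw⟩ := exists_prime_orderOf_dvd_card' (G := S) q hqS
  have hwD : w ∈ (D.map π).subgroupOf S := by rw [hItop]; trivial
  obtain ⟨y, hy, hyw⟩ := hwD
  have h1 : q ∣ orderOf y := by
    have h2 : π y = (w : G ⧸ K) := hyw
    rw [← hw, ← Subgroup.orderOf_coe, ← h2]
    exact orderOf_map_dvd π y
  have h2 : Commute y a0 := ((Subgroup.mem_centralizer_iff.1 hy) a0 ha0).symm
  obtain ⟨g, hg⟩ := exists_mul_order h2 hqp hr hqr h1 (by rw [ho0])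
  obtain ⟨g', hg', -⟩ := orderOf_lift f' hf's g
  exact hqno g' (hg'.trans hg)

end Cfsg.Agent.H799.U45
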