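import Cfsg.Agent.H421.Act
import Cfsg.Agent.H799.U45.Frob

/-!
# Chief factors of the solvable radical (helper799)

`exists_min` : a chief factor just above `N` in `K`; `centralizes` : `K` centralizes its `G`-chief factors if enough primes
are nonadjacent in the prime graph; `rep` : the action of `G ⧸ K` on such a factor.
-/

set_option autoImplicit false

namespace Cfsg.Agent.H799.U45

open Subgroup Cfsg.Agent.H421.Act

universe u

/-- `M / N` is a chief factor of `G`, elementary abelian of exponent `t` -/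
structure Chief {G : Type u} [Group G] (N M : Subgroup G) (t : ℕ) : Prop where
  nN : N.Normal
  nM : M.Normal
  lt : N < M
  prime : t.Prime
  exp : ∀ x ∈ M, x ^ t ∈ N
  comm : ∀ x ∈ M, ∀ y ∈ M, x * y * x⁻¹ * y⁻¹ ∈ N
  min : ∀ L : Subgroup G, L.Normal → N ≤ L → L ≤ M → L = N ∨ L = M

/-- a chief factor just above `N` -/
theorem exists_min {G : Type u} [Group G] [Finite G] (N K : Subgroup G) [hN : N.Normal] [hK : K.Normal] (hlt : N < K)
    (hs : Group.IsSolvable K) : ∃ (M : Subgroup G) (t : ℕ), M ≤ K ∧ Chief N M t := by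
  classical
  obtain ⟨M, ⟨hM, hNM, hMK⟩, hmin⟩ := Set.Finite.exists_minimal
    (s := {L : Subgroup G | L.Normal ∧ N < L ∧ L ≤ K}) (Set.toFinite _) ⟨K, hK, hlt, le_rfl⟩
  have hcase : ∀ L : Subgroup G, L.Normal → N ≤ L → L ≤ M → L = N ∨ L = M := by
    intro L hL h1 h2
    rcases eq_or_lt_of_le h1 with h3 | h3
    · exact Or.inl h3.symm
    · exact Or.inr (le_antisymm h2 (hmin ⟨hL, h3, h2.trans hMK⟩ h2))
  let f := QuotientGroup.mk' N
  have hf : Function.Surjective f := QuotientGroup.mk'_surjective N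
  have hMn : (M.map f).Normal := hM.map f hf
  have hne : M.map f ≠ ⊥ := by
    intro h
    rw [Subgroup.map_eq_bot_iff, QuotientGroup.ker_mk'] at h
    exact absurd h (not_le_of_gt hNM)
  have hMs : Group.IsSolvable M := Group.isSolvable_of_isSolvable_injective (Subgroup.inclusion_injective hMK)
  have hsol : Group.IsSolvable (M.map f) := Group.isSolvable_of_surjective (f.subgroupMap_surjective M)
  obtain ⟨K1, t, hK1, hlt1, ht, -, hexp, hcomm⟩ := exists_max (M.map f) hne hsol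
  have hK1' : K1 = ⊥ := by
    have h1 : (K1.comap f).Normal := hK1.comap f
    have h2 : N ≤ K1.comap f := by
      intro n hn
      rw [Subgroup.mem_comap, show f n = 1 from (QuotientGroup.eq_one_iff n).2 hn]
      exact K1.one_mem
    have h3 : K1.comap f ≤ M := by
      intro x hx
      obtain ⟨m, hm, hmx⟩ := hlt1.le hx
      have h4 : (m⁻¹ * x : G) ∈ N := by
        rw [← QuotientGroup.eq_one_iff]
        change f (m⁻¹ * x) = 1
        rw [map_mul, map_inv, hmx, inv_mul_cancel]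
      have h5 := M.mul_mem hm (hNM.le h4)
      rwa [mul_inv_cancel_left] at h5
    rcases hcase _ h1 h2 h3 with h4 | h4
    · rw [eq_bot_iff]
      intro y hy
      obtain ⟨x, rfl⟩ := hf y
      have h5 : x ∈ K1.comap f := hy
      rw [h4] at h5
      exact (QuotientGroup.eq_one_iff x).2 h5
    · exfalso
      apply hlt1.ne
      rw [← h4, Subgroup.map_comap_eq_self_of_surjective hf]
  subst hK1'
  refine ⟨M, t, hMK, hN, hM, hNM, ht, ?_, ?_, hcase⟩
  · intro x hx
    have h1 := hexp (f x) ⟨x, hx, rfl⟩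
    rw [Subgroup.mem_bot, ← map_pow] at h1
    exact (QuotientGroup.eq_one_iff _).1 h1
  · intro x hx y hy
    have h1 := hcomm (f x) ⟨x, hx, rfl⟩ (f y) ⟨y, hy, rfl⟩
    rw [Subgroup.mem_bot, ← map_inv, ← map_inv, ← map_mul, ← map_mul, ← map_mul] at h1
    exact (QuotientGroup.eq_one_iff _).1 h1

/-- an element of `K` of prime order `t` outside `N` gives a chief factor of characteristic `t` -/
theorem exists_chief_of_not_mem {G : Type u} [Group G] [Finite G] (K : Subgroup G) [hK : K.Normal]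
    (hs : Group.IsSolvable K) {t : ℕ} (ht : t.Prime) {z : G} (hzK : z ∈ K) (hz : z ^ t = 1) (hz1 : z ≠ 1) :
    ∃ N M : Subgroup G, M ≤ K ∧ Chief N M t ∧ z ∈ M ∧ z ∉ N := by
  classical
  obtain ⟨N, ⟨hN, hNK, hzN⟩, hmax⟩ := Set.Finite.exists_maximal
    (s := {L : Subgroup G | L.Normal ∧ L ≤ K ∧ z ∉ L}) (Set.toFinite _)
    ⟨⊥, inferInstance, bot_le, fun h => hz1 (Subgroup.mem_bot.1 h)⟩
  have hlt : N < K := lt_of_le_of_ne hNK fun h => hzN (h ▸ hzK)
  obtain ⟨M, t', hMK, hM⟩ := exists_min N K hlt hs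
  have hzM : z ∈ M := by
    by_contra hzM
    exact absurd (hmax ⟨hM.nM, hMK, hzM⟩ hM.lt.le) (not_le_of_gt hM.lt)
  have htt : t' = t := by
    by_contra hne
    have h1 := hM.exp z hzM
    have hfr : Fact t.Prime := ⟨ht⟩
    have h2 : orderOf z = t := orderOf_eq_prime hz hz1
    have h3 : z ∈ zpowers (z ^ t') := by
      have h4 : orderOf (z ^ t') = t := by
        rw [Nat.Coprime.orderOf_pow, h2]
        rw [h2]
        exact (Nat.coprime_primes ht hM.prime).2 (Ne.symm hne)
      have h5 : zpowers (z ^ t') = zpowers z := by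
        apply Subgroup.eq_of_le_of_card_ge (zpowers_le.2 (pow_mem (mem_zpowers z) _))
        rw [Nat.card_zpowers, Nat.card_zpowers, h4, h2]
      rw [h5]
      exact mem_zpowers z
    exact hzN ((zpowers_le.2 h1) h3)
  subst htt
  exact ⟨N, M, hMK, hM, hzM, hzN⟩

section

variable {G : Type u} [Group G] [Finite G] {N M : Subgroup G} {t : ℕ}

/-- the chief factor as a subgroup of `G ⧸ N` -/
theorem Chief.facts (h : Chief N M t) : ∃ (_ : N.Normal) (_ : M.Normal), (M.map (QuotientGroup.mk' N)).Normal ∧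
    (∀ a ∈ M.map (QuotientGroup.mk' N), ∀ b ∈ M.map (QuotientGroup.mk' N), a * b = b * a) ∧
    (∀ a ∈ M.map (QuotientGroup.mk' N), a ^ t = 1) ∧ M.map (QuotientGroup.mk' N) ≠ ⊥ := by
  have hN := h.nN
  have hM := h.nM
  refine ⟨hN, hM, hM.map _ (QuotientGroup.mk'_surjective N), ?_, ?_, ?_⟩
  · rintro _ ⟨x, hx, rfl⟩ _ ⟨y, hy, rfl⟩
    have h1 : QuotientGroup.mk' N (x * y * x⁻¹ * y⁻¹) = 1 := (QuotientGroup.eq_one_iff _).2 (h.comm x hx y hy)
    rw [map_mul, map_mul, map_mul, map_inv, map_inv, mul_inv_eq_one, mul_inv_eq_iff_eq_mul] at h1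
    exact h1
  · rintro _ ⟨x, hx, rfl⟩
    rw [← map_pow]
    exact (QuotientGroup.eq_one_iff _).2 (h.exp x hx)
  · intro h1
    rw [Subgroup.map_eq_bot_iff, QuotientGroup.ker_mk'] at h1
    exact absurd h1 (not_le_of_gt h.lt)

/-- **The action of `G ⧸ C` on a chief factor centralized by `C`.** -/
theorem rep (h : Chief N M t) (C : Subgroup G) [hC : C.Normal] (hNC : N ≤ C)
    (hcent : ∀ k ∈ C, ∀ m ∈ M, k * m * k⁻¹ * m⁻¹ ∈ N) :
    ∃ (V : Type u) (_ : AddCommGroup V) (_ : Nontrivial V) (_ : Finite V) (ρ : G ⧸ C →* AddMonoid.End V),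
      (∀ v : V, t • v = 0) ∧
      (∀ r : ℕ, r.Prime → r ≠ t → (∀ g : G, orderOf g ≠ r * t) → ∀ x : G ⧸ C, orderOf x = r →
        ∀ v, ρ x v = v → v = 0) ∧
      (∀ g z : G, z ∈ M → z ∉ N → g * z = z * g → ∃ v : V, v ≠ 0 ∧ ρ (QuotientGroup.mk' C g) v = v) ∧
      (∀ g : G, (∀ v : V, ρ (QuotientGroup.mk' C g) v = v) → ∀ m ∈ M, g * m * g⁻¹ * m⁻¹ ∈ N) ∧
      ∀ U : AddSubgroup V, (∀ x : G ⧸ C, ∀ v ∈ U, ρ x v ∈ U) → U = ⊥ ∨ U = ⊤ := by
  classical
  obtain ⟨hN, hM, hWn, hab, hexp, hWne⟩ := h.facts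
  let f := QuotientGroup.mk' N
  let W : Subgroup (G ⧸ N) := M.map f
  have hWexp : ∀ w : W, w ^ t = 1 := fun w => Subtype.ext (hexp w w.2)
  let _ : CommGroup W := { (inferInstance : Group W) with
    mul_comm := fun a b => Subtype.ext (hab a a.2 b b.2) }
  have hWnt : Nontrivial W := (Subgroup.nontrivial_iff_ne_bot W).2 hWne
  let c : G →* MulAut W := (MulAut.conjNormal (H := W)).comp f
  have hc : ∀ (g : G) (w : W), ((c g w : W) : G ⧸ N) = f g * w * (f g)⁻¹ := fun g w => MulAut.conjNormal_apply _ _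
  have hker : ∀ k ∈ C, c k = 1 := by
    intro k hk
    apply MulEquiv.ext
    rintro ⟨w, m, hm, rfl⟩
    apply Subtype.ext
    rw [hc]
    have h1 : f (k * m * k⁻¹ * m⁻¹) = 1 := (QuotientGroup.eq_one_iff _).2 (hcent k hk m hm)
    rw [map_mul, map_mul, map_mul, map_inv, map_inv, mul_inv_eq_one] at h1
    exact h1
  let ρ : G ⧸ C →* AddMonoid.End (Additive W) := (toEnd W).comp (QuotientGroup.lift C c hker)
  refine ⟨Additive W, inferInstance, inferInstance, inferInstance, ρ, fun v => ?_, ?_, ?_, ?_, ?_⟩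
  · exact hWexp (Additive.toMul v)
  · intro r hr hrt hno x hx v hv
    obtain ⟨g, rfl⟩ := QuotientGroup.mk'_surjective C x
    have h1 : c g (Additive.toMul v) = Additive.toMul v := hv
    have h2 : f g * (Additive.toMul v : W) * (f g)⁻¹ = (Additive.toMul v : W) := by
      rw [← hc, h1]
    have h3 : Commute (f g) ((Additive.toMul v : W) : G ⧸ N) := mul_inv_eq_iff_eq_mul.1 h2
    by_contra hne
    have hne' : (Additive.toMul v : W) ≠ 1 := hne
    have h4 : t ∣ orderOf ((Additive.toMul v : W) : G ⧸ N) := by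
      have : Fact t.Prime := ⟨h.prime⟩
      rw [Subgroup.orderOf_coe, orderOf_eq_prime (hWexp _) hne']
    have h5 : r ∣ orderOf (f g) := by
      rw [← hx]
      let φ : G ⧸ N →* G ⧸ C := QuotientGroup.map N C (MonoidHom.id G) hNC
      have h6 : φ (f g) = QuotientGroup.mk' C g := rfl
      rw [← h6]
      exact orderOf_map_dvd φ (f g)
    obtain ⟨y, hy⟩ := exists_mul_order h3 hr h.prime hrt h5 h4
    obtain ⟨u, hu, -⟩ := orderOf_lift f (QuotientGroup.mk'_surjective N) y
    exact hno u (hu.trans hy)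
  · intro g z hz hzN hgz
    refine ⟨Additive.ofMul ⟨f z, z, hz, rfl⟩, ?_, ?_⟩
    · intro h0
      have h1 : (⟨f z, z, hz, rfl⟩ : W) = 1 := h0
      have h2 : f z = 1 := congrArg Subtype.val h1
      exact hzN ((QuotientGroup.eq_one_iff z).1 h2)
    · have h1 : c g ⟨f z, z, hz, rfl⟩ = ⟨f z, z, hz, rfl⟩ := by
        apply Subtype.ext
        rw [hc]
        change f g * f z * (f g)⁻¹ = f z
        rw [← map_mul, hgz, map_mul, mul_inv_cancel_right]
      exact h1
  · intro g hg m hm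
    have h1 : c g ⟨f m, m, hm, rfl⟩ = ⟨f m, m, hm, rfl⟩ := hg (Additive.ofMul ⟨f m, m, hm, rfl⟩)
    have h2 := congrArg Subtype.val h1
    rw [hc] at h2
    change f g * f m * (f g)⁻¹ = f m at h2
    rw [← QuotientGroup.eq_one_iff]
    change f (g * m * g⁻¹ * m⁻¹) = 1
    rw [map_mul, map_mul, map_mul, map_inv, map_inv, h2, mul_inv_cancel]
  · intro U hU
    let L : Subgroup G :=
      { carrier := {g | ∃ hg : g ∈ M, Additive.ofMul (⟨f g, g, hg, rfl⟩ : W) ∈ U}
        one_mem' := ⟨M.one_mem, by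
          have : Additive.ofMul (⟨f 1, 1, M.one_mem, rfl⟩ : W) = 0 := Subtype.ext (map_one f)
          rw [this]
          exact U.zero_mem⟩
        mul_mem' := by
          rintro a b ⟨ha, ha'⟩ ⟨hb, hb'⟩
          refine ⟨M.mul_mem ha hb, ?_⟩
          have h1 := U.add_mem ha' hb'
          have h2 : Additive.ofMul (⟨f a, a, ha, rfl⟩ : W) + Additive.ofMul (⟨f b, b, hb, rfl⟩ : W) =
              Additive.ofMul (⟨f (a * b), a * b, M.mul_mem ha hb, rfl⟩ : W) := Subtype.ext (map_mul f a b).symm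
          rwa [h2] at h1
        inv_mem' := by
          rintro a ⟨ha, ha'⟩
          refine ⟨M.inv_mem ha, ?_⟩
          have h1 := U.neg_mem ha'
          have h2 : - Additive.ofMul (⟨f a, a, ha, rfl⟩ : W) =
              Additive.ofMul (⟨f a⁻¹, a⁻¹, M.inv_mem ha, rfl⟩ : W) := Subtype.ext (map_inv f a).symm
          rwa [h2] at h1 }
    have hL : L.Normal := by
      refine ⟨?_⟩
      rintro a ⟨ha, ha'⟩ g
      refine ⟨hM.conj_mem a ha g, ?_⟩
      have h1 := hU (QuotientGroup.mk' C g) _ ha'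
      have h2 : ρ (QuotientGroup.mk' C g) (Additive.ofMul (⟨f a, a, ha, rfl⟩ : W)) =
          Additive.ofMul (⟨f (g * a * g⁻¹), g * a * g⁻¹, hM.conj_mem a ha g, rfl⟩ : W) := by
        have h3 : c g ⟨f a, a, ha, rfl⟩ = ⟨f (g * a * g⁻¹), g * a * g⁻¹, hM.conj_mem a ha g, rfl⟩ := by
          apply Subtype.ext
          rw [hc]
          change f g * f a * (f g)⁻¹ = f (g * a * g⁻¹)
          rw [map_mul, map_mul, map_inv]
        exact h3
      rwa [h2] at h1
    have hNL : N ≤ L := by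
      intro n hn
      refine ⟨h.lt.le hn, ?_⟩
      have : Additive.ofMul (⟨f n, n, h.lt.le hn, rfl⟩ : W) = 0 := Subtype.ext ((QuotientGroup.eq_one_iff n).2 hn)
      rw [this]
      exact U.zero_mem
    have key : ∀ v : Additive W, ∃ m, ∃ hm : m ∈ M, v = Additive.ofMul (⟨f m, m, hm, rfl⟩ : W) := by
      intro v
      obtain ⟨m, hm, hw⟩ := (Additive.toMul v : W).2
      exact ⟨m, hm, (Subtype.ext hw.symm : (Additive.toMul v : W) = ⟨f m, m, hm, rfl⟩)⟩
    rcases h.min L hL hNL (fun x hx => hx.1) with h1 | h1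
    · left
      rw [eq_bot_iff]
      intro v hv
      obtain ⟨m, hm, rfl⟩ := key v
      have h2 : m ∈ L := ⟨hm, hv⟩
      rw [h1] at h2
      rw [AddSubgroup.mem_bot]
      exact Subtype.ext ((QuotientGroup.eq_one_iff m).2 h2)
    · right
      rw [eq_top_iff]
      intro v _
      obtain ⟨m, hm, rfl⟩ := key v
      have h2 : m ∈ L := by rw [h1]; exact hm
      exact h2.2

end

end Cfsg.Agent.H799.U45
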