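import Cfsg.Agent.H799.U45.Cent
import Cfsg.Agent.H413.U45.Defs

/-!
# Modules from the solvable radical of a group with the prime graph of `PSU₄(5)` (helper799)

`chief` : if a prime `t` divides `|K|` (and 7, 13 do not), then `G ⧸ K` acts on an elementary abelian `t`-group with
the elements of prime order `r` not adjacent to `t` acting fixed point freely; `chief13` : if `t = 2` comes from an
element of order 26.
-/

set_option autoImplicit false

namespace Cfsg.Agent.H799.U45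

open Subgroup Cfsg.Agent.H421.Act Cfsg.Agent.H413.U45

universe u

section

variable {G : Type u} [Group G] [Finite G] (hG : Gr G) (K : Subgroup G) [K.Normal] (S : Subgroup (G ⧸ K))
  (hS : Cfsg.Agent.H413.U45.Sec G K S) (h7 : ¬ 7 ∣ Nat.card K) (h13 : ¬ 13 ∣ Nat.card K) (h7S : 7 ∣ Nat.card S)
  (h13S : 13 ∣ Nat.card S)

include hG h7 h13 h7S h13S in
/-- every prime dividing `|K|` is not adjacent to 7 or 13 -/
theorem nonadj {r : ℕ} (hr : r.Prime) (hd : r ∣ Nat.card K) : ∃ q : ℕ, q.Prime ∧ q ≠ r ∧ q ∣ Nat.card S ∧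
    ¬ q ∣ Nat.card K ∧ ∀ g : G, orderOf g ≠ q * r := by
  have h1 := (hG.primes r hr).1 (hd.trans (Subgroup.card_subgroup_dvd_card K))
  rcases h1 with rfl | rfl | rfl | rfl | rfl
  · exact ⟨7, by norm_num, by norm_num, h7S, h7, fun g hg => hG.no14 g (by rw [hg, mul_comm])⟩
  · exact ⟨13, by norm_num, by norm_num, h13S, h13, fun g hg => hG.no39 g (by rw [hg, mul_comm])⟩
  · exact ⟨7, by norm_num, by norm_num, h7S, h7, fun g hg => hG.no35 g (by rw [hg, mul_comm])⟩
  · exact absurd hd h7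
  · exact absurd hd h13

include hG hS h7 h13 h7S h13S in
theorem chief_aux {t : ℕ} (ht : t.Prime) {z : G} (hzK : z ∈ K) (hz : z ^ t = 1) (hz1 : z ≠ 1) :
    ∃ (V : Type u) (_ : AddCommGroup V) (_ : Nontrivial V) (_ : Finite V) (ρ : G ⧸ K →* AddMonoid.End V),
      (∀ v : V, t • v = 0) ∧ (∀ r, r.Prime → r ≠ t → (∀ g : G, orderOf g ≠ r * t) →
        ∀ x : G ⧸ K, orderOf x = r → ∀ v, ρ x v = v → v = 0) ∧
      ∀ g : G, g * z = z * g → ∃ v : V, v ≠ 0 ∧ ρ (QuotientGroup.mk' K g) v = v := by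
  have hSn := hS.normal
  have htK : t ∣ Nat.card K := by
    have : Fact t.Prime := ⟨ht⟩
    have h1 : orderOf z = t := orderOf_eq_prime hz hz1
    rw [← h1, ← Subgroup.orderOf_mk z hzK]
    exact orderOf_dvd_natCard _
  obtain ⟨N, M, hMK, hM, hzM, hzN⟩ := exists_chief_of_not_mem K hS.solK ht hzK hz hz1
  obtain ⟨s, hs, hst, hsS, hsK, hsno⟩ := nonadj hG K S h7 h13 h7S h13S ht htK
  have hc := centralizes K hS.solK S hS.simple hM hMK hs hst hsK hsS hsno (by
    intro r hr hrK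
    obtain ⟨q, h1, h2, h3, -, h5⟩ := nonadj hG K S h7 h13 h7S h13S hr hrK
    exact ⟨q, h1, h2, h3, h5⟩)
  obtain ⟨V, i1, i2, i3, ρ, h1, h2, h3, -, -⟩ := rep hM K (hM.lt.le.trans hMK) hc
  exact ⟨V, i1, i2, i3, ρ, h1, h2, fun g hg => h3 g z hzM hzN hg⟩

include hG hS h7 h13 h7S h13S in
/-- **A prime dividing the order of the solvable radical gives a module of `G ⧸ K`.** -/
theorem chief {t : ℕ} (ht : t.Prime) (htK : t ∣ Nat.card K) :
    ∃ (V : Type u) (_ : AddCommGroup V) (_ : Nontrivial V) (_ : Finite V) (ρ : G ⧸ K →* AddMonoid.End V),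
      (∀ v : V, t • v = 0) ∧ ∀ r, r.Prime → r ≠ t → (∀ g : G, orderOf g ≠ r * t) →
        ∀ x : G ⧸ K, orderOf x = r → ∀ v, ρ x v = v → v = 0 := by
  have hft : Fact t.Prime := ⟨ht⟩
  obtain ⟨z, hz⟩ := exists_prime_orderOf_dvd_card' (G := K) t htK
  have hz1 : (z : G) ≠ 1 := by
    intro h
    have h1 : z = 1 := Subtype.ext h
    rw [h1, orderOf_one] at hz
    exact ht.one_lt.ne hz
  obtain ⟨V, i1, i2, i3, ρ, h1, h2, -⟩ := chief_aux hG K S hS h7 h13 h7S h13S ht z.2
    (by rw [← hz, ← Subgroup.orderOf_coe, pow_orderOf_eq_one]) hz1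
  exact ⟨V, i1, i2, i3, ρ, h1, h2⟩

include hG hS h7 h13 h7S h13S in
/-- **The element of order 26 gives a module in characteristic 2** if there is none in `G ⧸ K`. -/
theorem chief13 (hI : ¬ 13 ∣ S.index) (hno : ∀ x : G ⧸ K, orderOf x ≠ 26) :
    ∃ (V : Type u) (_ : AddCommGroup V) (_ : Nontrivial V) (_ : Finite V) (ρ : G ⧸ K →* AddMonoid.End V),
      (∀ v : V, 2 • v = 0) ∧ (∀ x : G ⧸ K, orderOf x = 7 → ∀ v, ρ x v = v → v = 0) ∧
      ∃ x : G ⧸ K, orderOf x = 13 ∧ x ∈ S ∧ ∃ v : V, v ≠ 0 ∧ ρ x v = v := by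
  have hSn := hS.normal
  obtain ⟨g, hg⟩ := hG.has26
  have hg0 : g ^ 26 = 1 := by rw [← pow_orderOf_eq_one g, hg]
  let f := QuotientGroup.mk' K
  have hu : orderOf (g ^ 2) = 13 := by
    rw [orderOf_pow, hg]; norm_num
  have hz : orderOf (g ^ 13) = 2 := by
    rw [orderOf_pow, hg]; norm_num
  have hu1 : f (g ^ 2) ≠ 1 := by
    intro h
    have h1 : g ^ 2 ∈ K := (QuotientGroup.eq_one_iff _).1 h
    apply h13
    rw [← hu, ← Subgroup.orderOf_mk _ h1]
    exact orderOf_dvd_natCard _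
  have h13' : Fact (Nat.Prime 13) := ⟨by norm_num⟩
  have h2' : Fact (Nat.Prime 2) := ⟨by norm_num⟩
  have hfu : orderOf (f (g ^ 2)) = 13 := by
    apply orderOf_eq_prime _ hu1
    rw [← map_pow, ← pow_mul, show 2 * 13 = 26 by norm_num, hg0, map_one]
  have hzK : g ^ 13 ∈ K := by
    by_contra hzK
    have h1 : f (g ^ 13) ≠ 1 := fun h => hzK ((QuotientGroup.eq_one_iff _).1 h)
    apply hno (f g)
    have h2 : orderOf (f g) ∣ 26 := by
      rw [orderOf_dvd_iff_pow_eq_one, ← map_pow, hg0, map_one]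
    have h3 : orderOf (f g) ≠ 1 := by
      intro h
      rw [orderOf_eq_one_iff] at h
      apply h1
      rw [map_pow, h, one_pow]
    have h4 : orderOf (f g) ≠ 2 := by
      intro h
      apply hu1
      rw [map_pow, ← h, pow_orderOf_eq_one]
    have h5 : orderOf (f g) ≠ 13 := by
      intro h
      apply h1
      rw [map_pow, ← h, pow_orderOf_eq_one]
    have h6 : orderOf (f g) ∈ Nat.divisors 26 := Nat.mem_divisors.2 ⟨h2, by norm_num⟩
    have h7 : Nat.divisors 26 = {1, 2, 13, 26} := by decide +kernel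
    rw [h7] at h6
    simp only [Finset.mem_insert, Finset.mem_singleton] at h6
    omega
  have hz1 : g ^ 13 ≠ 1 := by
    intro h
    rw [h, orderOf_one] at hz
    norm_num at hz
  obtain ⟨V, i1, i2, i3, ρ, h1, h2, h3⟩ := chief_aux hG K S hS h7 h13 h7S h13S Nat.prime_two hzK
    (by rw [← hz, pow_orderOf_eq_one]) hz1
  refine ⟨V, i1, i2, i3, ρ, h1, ?_, f (g ^ 2), hfu, ?_, ?_⟩
  · exact h2 7 (by norm_num) (by norm_num) fun g hg => hG.no14 g (by rw [hg])
  · have h4 : QuotientGroup.mk' S (f (g ^ 2)) = 1 := by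
      by_contra hne
      apply hI
      have h5 : orderOf (QuotientGroup.mk' S (f (g ^ 2))) = 13 := by
        apply orderOf_eq_prime _ hne
        rw [← map_pow, ← hfu, pow_orderOf_eq_one, map_one]
      rw [← h5, Subgroup.index_eq_card]
      exact orderOf_dvd_natCard _
    exact (QuotientGroup.eq_one_iff _).1 h4
  · apply h3
    rw [← pow_add, ← pow_add]

end

end Cfsg.Agent.H799.U45
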