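import Cfsg.Agent.H421.Rows
import Cfsg.Agent.S2474
import Cfsg.Agent.S2475
import Cfsg.Agent.S2476
import Cfsg.Agent.S2469
import Cfsg.Agent.H422.ElimSp
import Cfsg.Agent.H423.PSpSix
import Cfsg.Agent.H426.SixExc
import Cfsg.Agent.H377.ToOmega

/-!
# Elements of orders 14, 65, 91 in some simple groups with prime divisors 2, 3, 5, 7, 13 (helper799)
-/

set_option autoImplicit false

namespace Cfsg.Agent.H799.U45

open Cfsg Cfsg.Agent.OrdDiv Cfsg.Agent.H421.Rows Cfsg.Agent.LieClassical.FieldTransfer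

universe u

theorem charP_of_card {F : Type*} [Field F] [Fintype F] {p k : ℕ} (hp : p.Prime) (hF : Fintype.card F = p ^ k) :
    CharP F p := by
  obtain ⟨r, hr⟩ := CharP.exists F
  have hrp : Fact r.Prime := ⟨CharP.char_is_prime F r⟩
  obtain ⟨n, -, hn'⟩ := FiniteField.card F r
  have h1 : r ∣ p ^ k := by
    rw [← hF, hn']
    exact dvd_pow_self r n.ne_zero
  have h2 : r = p := (Nat.prime_dvd_prime_iff_eq hrp.out hp).1 (hrp.out.dvd_of_dvd_pow h1)
  rw [← h2]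
  exact hr

variable {S : Type u} [Group S]

theorem psl_two_27 (h : Real (.psl 2 27) S) : ∃ s : S, orderOf s = 2 * 7 := by
  obtain ⟨F, iF, iF', hF, ⟨e⟩⟩ := h
  have hp : Fact (Nat.Prime 3) := ⟨by norm_num⟩
  have hc : CharP F 3 := charP_of_card (k := 3) hp.out hF
  have h1 : (2 * 7 : ℕ) ∈ Set.range (orderOf : Matrix.ProjectiveSpecialLinearGroup (Fin 2) F → ℕ) := by
    rw [S2475.result 3 (by rw [hF]; norm_num), hF]
    exact Or.inr (Or.inr (by decide))
  exact orderOf_equiv e h1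

theorem psl_two_64 (h : Real (.psl 2 64) S) : ∃ s : S, orderOf s = 5 * 13 := by
  obtain ⟨F, iF, iF', hF, ⟨e⟩⟩ := h
  have hp : Fact (Nat.Prime 2) := ⟨by norm_num⟩
  have hc : CharP F 2 := charP_of_card (k := 6) hp.out hF
  have h1 : (5 * 13 : ℕ) ∈ Set.range (orderOf : Matrix.ProjectiveSpecialLinearGroup (Fin 2) F → ℕ) := by
    rw [S2475.result 2 (by rw [hF]; norm_num), hF]
    exact Or.inr (Or.inr (by decide))
  exact orderOf_equiv e h1

theorem psl_three_9 (h : Real (.psl 3 9) S) : ∃ s : S, orderOf s = 7 * 13 := by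
  obtain ⟨F, iF, iF', hF, ⟨e⟩⟩ := h
  have hp : Fact (Nat.Prime 3) := ⟨by norm_num⟩
  have hc : CharP F 3 := charP_of_card (k := 2) hp.out hF
  have h1 : (7 * 13 : ℕ) ∈ Set.range (orderOf : Matrix.ProjectiveSpecialLinearGroup (Fin 3) F → ℕ) := by
    rw [S2476.result 3, hF]
    exact Or.inl (by decide)
  exact orderOf_equiv e h1

theorem psp_two_7 (h : Real (.psp 2 7) S) : ∃ s : S, orderOf s = 2 * 7 := by
  obtain ⟨F, iF, iF', hF, ⟨e⟩⟩ := h
  have : Fact (Nat.Prime 7) := ⟨by norm_num⟩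
  exact orderOf_equiv (e.trans (pspCongr 2 (FiniteField.ringEquivOfCardEq (hF.trans (ZMod.card 7).symm))))
    H422.Elim.psp_two_seven

theorem card_of_eq {F : Type} [Field F] [Fintype F] (m : ℕ) (S' : Type u) [Group S'] (e : S' ≃* PSp m F) {r : ℕ}
    (h : r ∣ Nat.card S') : r ∣ Nat.card (PSp m F) := by
  rwa [← Nat.card_congr e.toEquiv]

theorem ord5 : orderOf ((8 : ℕ) : ZMod 5) = 4 :=
  orderOf_eq_of_pow_and_pow_div_prime (n := 4) (by norm_num) (by decide) (by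
    intro p hp hd
    have : p = 2 := (Nat.prime_dvd_prime_iff_eq hp Nat.prime_two).1 (hp.dvd_of_dvd_pow (n := 2) hd)
    subst this; decide)

theorem ord13 : orderOf ((8 : ℕ) : ZMod 13) = 4 :=
  orderOf_eq_of_pow_and_pow_div_prime (n := 4) (by norm_num) (by decide) (by
    intro p hp hd
    have : p = 2 := (Nat.prime_dvd_prime_iff_eq hp Nat.prime_two).1 (hp.dvd_of_dvd_pow (n := 2) hd)
    subst this; decide)

theorem psp_two_8 (hS : 5 ∣ Nat.card S ∧ 13 ∣ Nat.card S) (h : Real (.psp 2 8) S) :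
    ∃ s : S, orderOf s = 5 * 13 := by
  obtain ⟨F, iF, iF', hF, ⟨e⟩⟩ := h
  have hp : Fact (Nat.Prime 2) := ⟨by norm_num⟩
  have hc : CharP F 2 := charP_of_card (k := 3) hp.out hF
  have h5 : 4 = orderOf ((Fintype.card F : ℕ) : ZMod 5) := by rw [hF, ord5]
  have h13 : 4 = orderOf ((Fintype.card F : ℕ) : ZMod 13) := by rw [hF, ord13]
  have h1 := S2469.result (F := F) 2 2 le_rfl (fun _ => by rw [hF]; norm_num) 5 13 (by norm_num) (by norm_num)
    (by norm_num) (by norm_num) (by norm_num) (by norm_num) (by norm_num) (card_of_eq 2 S e hS.1)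
    (card_of_eq 2 S e hS.2) 4 4 2 2 h5 h13 (Or.inr ⟨by decide, rfl⟩) (Or.inr ⟨by decide, rfl⟩) le_rfl
  have h2 : (5 * 13 : ℕ) ∈ Set.range (orderOf : PSp 2 F → ℕ) := by
    by_contra hn
    exact (h1.1 hn).2 ⟨1, odd_one, rfl⟩
  exact orderOf_equiv e h2

theorem psp_three_3 (h : Real (.psp 3 3) S) : ∃ s : S, orderOf s = 2 * 7 := by
  obtain ⟨F, iF, iF', hF, ⟨e⟩⟩ := h
  have : Fact (Nat.Prime 3) := ⟨by norm_num⟩
  exact orderOf_equiv (e.trans (pspCongr 3 (FiniteField.ringEquivOfCardEq (hF.trans (ZMod.card 3).symm))))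
    H423.PSpSix.exists14

theorem oodd_three_3 (h : Real (.oodd 3 3) S) : ∃ s : S, orderOf s = 2 * 7 := by
  obtain ⟨F, iF, iF', hF, ⟨e⟩⟩ := h
  have : Fact (Nat.Prime 3) := ⟨by norm_num⟩
  have h1 := S2474.result (F := F) (by rw [hF]; decide) 3 le_rfl 2 7 (by norm_num) (by norm_num) (by norm_num)
  obtain ⟨g, hg⟩ := h1.2 (orderOf_equiv (pspCongr 3 (FiniteField.ringEquivOfCardEq
    (hF.trans (ZMod.card 3).symm))) H423.PSpSix.exists14)
  exact orderOf_equiv e ⟨g, hg⟩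

theorem oplus_four_3 (h : Real (.oplus 4 3) S) : ∃ s : S, orderOf s = 2 * 7 := by
  obtain ⟨F, iF, iF', hF, ⟨e⟩⟩ := h
  refine orderOf_equiv e ?_
  have h1 : H377.Elt F 3 (-1) 28 := H377.elt_tor_minus (by norm_num) (by
    rw [Nat.card_eq_fintype_card, hF]; decide)
  have h2 : H377.Elt2 F (3 + 1) (-1 * -1) (28 / 2) := h1.add_two le_rfl (Or.inr rfl) (by decide)
  exact H377.Elt2.plus (m := 4) (N := 2 * 7) le_rfl h2

theorem td4_2 (h : Real (.td4 2) S) : ∃ s : S, orderOf s = 2 * 7 := by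
  obtain ⟨F, iF, iF', hF, ⟨e⟩⟩ := h
  have hp : Fact (Nat.Prime 2) := ⟨by norm_num⟩
  have hc : CharP F 2 := charP_of_card (k := 3) hp.out hF
  refine orderOf_equiv e ?_
  obtain ⟨g, hg⟩ := H426.SixExc.td4 (K := F) 2 (Q := 2) (r := 7) Nat.prime_two.isPrimePow hF (by norm_num)
    (by norm_num) (by decide)
  exact ⟨g, hg⟩

end Cfsg.Agent.H799.U45
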