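import Cfsg.Agent.H799.U45.Pair
import Cfsg.Agent.H799.U45.RowsA
import Cfsg.Agent.H124.SUThreeEig
import Cfsg.Agent.H422.UFour
import Cfsg.Agent.H422.ElimOmega

/-!
# Noncyclic abelian subgroups of some simple groups, I (helper799)
-/

set_option autoImplicit false

namespace Cfsg.Agent.H799.U45

open Cfsg Cfsg.Agent.OrdDiv Cfsg.Agent.H421.Rows Cfsg.Agent.LieClassical.FieldTransfer Matrix

universe u

section
open Equiv

theorem alt_7 : Pair 3 (alternatingGroup (Fin 7)) :=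
  pair_of_pows (by norm_num) (x := ⟨swap 0 1 * swap 1 2, Equiv.Perm.mem_alternatingGroup.2 (by decide)⟩) (y := ⟨swap 3 4 * swap 4 5, Equiv.Perm.mem_alternatingGroup.2 (by decide)⟩)
    (Subtype.ext (by decide)) (fun h => absurd (congrArg Subtype.val h) (by decide)) (Subtype.ext (by decide))
    (Subtype.ext (by decide)) (by decide +kernel)

theorem alt_8 : Pair 3 (alternatingGroup (Fin 8)) :=
  pair_of_pows (by norm_num) (x := ⟨swap 0 1 * swap 1 2, Equiv.Perm.mem_alternatingGroup.2 (by decide)⟩) (y := ⟨swap 3 4 * swap 4 5, Equiv.Perm.mem_alternatingGroup.2 (by decide)⟩)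
    (Subtype.ext (by decide)) (fun h => absurd (congrArg Subtype.val h) (by decide)) (Subtype.ext (by decide))
    (Subtype.ext (by decide)) (by decide +kernel)

theorem alt_9 : Pair 3 (alternatingGroup (Fin 9)) :=
  pair_of_pows (by norm_num) (x := ⟨swap 0 1 * swap 1 2, Equiv.Perm.mem_alternatingGroup.2 (by decide)⟩) (y := ⟨swap 3 4 * swap 4 5, Equiv.Perm.mem_alternatingGroup.2 (by decide)⟩)
    (Subtype.ext (by decide)) (fun h => absurd (congrArg Subtype.val h) (by decide)) (Subtype.ext (by decide))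
    (Subtype.ext (by decide)) (by decide +kernel)

theorem alt_10 : Pair 3 (alternatingGroup (Fin 10)) :=
  pair_of_pows (by norm_num) (x := ⟨swap 0 1 * swap 1 2, Equiv.Perm.mem_alternatingGroup.2 (by decide)⟩) (y := ⟨swap 3 4 * swap 4 5, Equiv.Perm.mem_alternatingGroup.2 (by decide)⟩)
    (Subtype.ext (by decide)) (fun h => absurd (congrArg Subtype.val h) (by decide)) (Subtype.ext (by decide))
    (Subtype.ext (by decide)) (by decide +kernel)

end

variable {S : Type u} [Group S]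

/-- in a central quotient -/
theorem pair_mk {r : ℕ} (hr : r.Prime) {G : Type*} [Group G] {x y u v : G} (hx : x ^ r = 1) (hy : y ^ r = 1)
    (hxy : x * y = y * x) (h1 : x * u ≠ u * x) (h2 : ∀ k < r, (x ^ k * y) * v ≠ v * (x ^ k * y)) :
    Pair r (G ⧸ Subgroup.center G) := by
  refine pair_of_pows hr (x := QuotientGroup.mk x) (y := QuotientGroup.mk y) ?_ ?_ ?_ ?_ ?_
  · rw [← QuotientGroup.mk_pow, hx, QuotientGroup.mk_one]
  · intro h
    rw [QuotientGroup.eq_one_iff] at h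
    exact h1 (Subgroup.mem_center_iff.1 h u).symm
  · rw [← QuotientGroup.mk_pow, hy, QuotientGroup.mk_one]
  · rw [← QuotientGroup.mk_mul, hxy, QuotientGroup.mk_mul]
  · intro k hk h
    rw [← QuotientGroup.mk_pow] at h
    have h3 := QuotientGroup.eq.1 h
    rcases Nat.eq_zero_or_pos k with rfl | hk0
    · rw [pow_zero, inv_one, one_mul] at h3
      have := h2 0 hk
      rw [pow_zero, one_mul] at this
      exact this (Subgroup.mem_center_iff.1 h3 v).symm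
    · have h4 : (x ^ k)⁻¹ = x ^ (r - k) := by
        rw [inv_eq_iff_mul_eq_one, ← pow_add, Nat.add_sub_cancel' hk.le, hx]
      rw [h4] at h3
      exact h2 (r - k) (by omega) (Subgroup.mem_center_iff.1 h3 v).symm

/-! ### Linear groups -/

theorem psl_three_4 [Finite S] (h9 : 3 ^ 2 ∣ Nat.card S) (h : Real (.psl 3 4) S) : Pair 3 S := by
  obtain ⟨F, iF, iF', hF, ⟨e⟩⟩ := h
  have hp : Fact (Nat.Prime 2) := ⟨by norm_num⟩
  have hc : CharP F 2 := charP_of_card (k := 2) hp.out hF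
  refine pair_of_no_sq (by norm_num) h9 fun g hg => ?_
  have h1 : (3 ^ 2 : ℕ) ∈ Set.range (orderOf : Matrix.ProjectiveSpecialLinearGroup (Fin 3) F → ℕ) :=
    ⟨e g, by rw [MulEquiv.orderOf_eq, hg]⟩
  rw [S2476.result 2, hF] at h1
  rcases h1 with h1 | h1 | h1 | h1 | h1
  · revert h1; decide
  · revert h1; decide
  · revert h1; decide
  · revert h1; decide
  · revert h1; decide

theorem psl_two_49 [Finite S] (h49 : 7 ^ 2 ∣ Nat.card S) (h : Real (.psl 2 49) S) : Pair 7 S := by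
  obtain ⟨F, iF, iF', hF, ⟨e⟩⟩ := h
  have hp : Fact (Nat.Prime 7) := ⟨by norm_num⟩
  have hc : CharP F 7 := charP_of_card (k := 2) hp.out hF
  refine pair_of_no_sq (by norm_num) h49 fun g hg => ?_
  have h1 : (7 ^ 2 : ℕ) ∈ Set.range (orderOf : Matrix.ProjectiveSpecialLinearGroup (Fin 2) F → ℕ) :=
    ⟨e g, by rw [MulEquiv.orderOf_eq, hg]⟩
  rw [S2475.result 7 (by rw [hF]; norm_num), hF] at h1
  rcases h1 with h1 | h1 | h1
  · revert h1; decide
  · revert h1; decide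
  · revert h1; decide

theorem psl_two_25 [Finite S] (h25 : 5 ^ 2 ∣ Nat.card S) (h : Real (.psl 2 25) S) : Pair 5 S := by
  obtain ⟨F, iF, iF', hF, ⟨e⟩⟩ := h
  have hp : Fact (Nat.Prime 5) := ⟨by norm_num⟩
  have hc : CharP F 5 := charP_of_card (k := 2) hp.out hF
  refine pair_of_no_sq (by norm_num) h25 fun g hg => ?_
  have h1 : (5 ^ 2 : ℕ) ∈ Set.range (orderOf : Matrix.ProjectiveSpecialLinearGroup (Fin 2) F → ℕ) :=
    ⟨e g, by rw [MulEquiv.orderOf_eq, hg]⟩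
  rw [S2475.result 5 (by rw [hF]; norm_num), hF] at h1
  rcases h1 with h1 | h1 | h1
  · revert h1; decide
  · revert h1; decide
  · revert h1; decide

section

local instance fact_two : Fact (Nat.Prime 2) := ⟨by norm_num⟩
local instance fact_three : Fact (Nat.Prime 3) := ⟨by norm_num⟩
local instance fact_five : Fact (Nat.Prime 5) := ⟨by norm_num⟩

/-- matrices for `PSL₄(2)` -/
def xM : Matrix (Fin 4) (Fin 4) (ZMod 2) := !![0, 1, 0, 0; 1, 1, 0, 0; 0, 0, 1, 0; 0, 0, 0, 1]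
/-- matrices for `PSL₄(2)` -/
def yM : Matrix (Fin 4) (Fin 4) (ZMod 2) := !![1, 0, 0, 0; 0, 1, 0, 0; 0, 0, 0, 1; 0, 0, 1, 1]
/-- matrices for `PSL₄(2)` -/
def uM : Matrix (Fin 4) (Fin 4) (ZMod 2) := !![1, 0, 1, 0; 0, 1, 0, 0; 0, 0, 1, 0; 0, 0, 0, 1]

/-- elements of `SL₄(2)` -/
def xs : Matrix.SpecialLinearGroup (Fin 4) (ZMod 2) := ⟨xM, by decide +kernel⟩
/-- elements of `SL₄(2)` -/
def ysl : Matrix.SpecialLinearGroup (Fin 4) (ZMod 2) := ⟨yM, by decide +kernel⟩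
/-- elements of `SL₄(2)` -/
def us : Matrix.SpecialLinearGroup (Fin 4) (ZMod 2) := ⟨uM, by decide +kernel⟩

theorem xs_pow (k : ℕ) : (xs ^ k).1 = xM ^ k := Matrix.SpecialLinearGroup.coe_pow _ _

theorem psl42 : Pair 3 (Matrix.ProjectiveSpecialLinearGroup (Fin 4) (ZMod 2)) := by
  refine pair_mk (by norm_num) (x := xs) (y := ysl) (u := us) (v := us) ?_ ?_ ?_ ?_ ?_
  · apply Subtype.ext
    rw [xs_pow]
    change xM ^ 3 = 1
    decide +kernel
  · apply Subtype.ext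
    rw [Matrix.SpecialLinearGroup.coe_pow]
    change yM ^ 3 = 1
    decide +kernel
  · apply Subtype.ext
    change xM * yM = yM * xM
    decide +kernel
  · intro h
    have h1 : xM * uM = uM * xM := congrArg Subtype.val h
    revert h1
    decide +kernel
  · intro k hk h
    have h1 : (xs ^ k).1 * yM * uM = uM * ((xs ^ k).1 * yM) := congrArg Subtype.val h
    rw [xs_pow] at h1
    have h2 : ∀ k < 3, xM ^ k * yM * uM ≠ uM * (xM ^ k * yM) := by decide +kernel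
    exact h2 k hk h1

theorem psl_four_2 (h : Real (.psl 4 2) S) : Pair 3 S := by
  obtain ⟨F, iF, iF', hF, ⟨e⟩⟩ := h
  let e2 : Matrix.ProjectiveSpecialLinearGroup (Fin 4) (ZMod 2) ≃* Matrix.ProjectiveSpecialLinearGroup (Fin 4) F :=
    pslCongr (FiniteField.ringEquivOfCardEq (K := ZMod 2) (K' := F) (by rw [hF, ZMod.card]))
  exact psl42.of_equiv (e.trans e2.symm)

/-! ### Symplectic groups -/

theorem sp_coe_pow {l R : Type*} [Fintype l] [DecidableEq l] [CommRing R]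
    (g : symplecticGroup l R) (n : ℕ) : ((g ^ n : symplecticGroup l R) : Matrix (l ⊕ l) (l ⊕ l) R) =
      (g : Matrix (l ⊕ l) (l ⊕ l) R) ^ n := rfl

/-- pairs in projective symplectic groups -/
theorem psp_pair {m p r : ℕ} (hr : r.Prime) [Fact p.Prime] {X Y U V : Matrix (Fin m ⊕ Fin m) (Fin m ⊕ Fin m) (ZMod p)}
    (hX : X * J (Fin m) (ZMod p) * Xᵀ = J (Fin m) (ZMod p)) (hY : Y * J (Fin m) (ZMod p) * Yᵀ = J (Fin m) (ZMod p))
    (hU : U * J (Fin m) (ZMod p) * Uᵀ = J (Fin m) (ZMod p)) (hV : V * J (Fin m) (ZMod p) * Vᵀ = J (Fin m) (ZMod p))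
    (h1 : X ^ r = 1) (h2 : Y ^ r = 1) (h3 : X * Y = Y * X) (h4 : X * U ≠ U * X)
    (h5 : ∀ k < r, (X ^ k * Y) * V ≠ V * (X ^ k * Y)) : Pair r (PSp m (ZMod p)) := by
  refine pair_mk hr (G := symplecticGroup (Fin m) (ZMod p)) (x := ⟨X, (SymplecticGroup.mem_iff (A := X)).2 hX⟩)
    (y := ⟨Y, (SymplecticGroup.mem_iff (A := Y)).2 hY⟩) (u := ⟨U, (SymplecticGroup.mem_iff (A := U)).2 hU⟩)
    (v := ⟨V, (SymplecticGroup.mem_iff (A := V)).2 hV⟩) (Subtype.ext h1) (Subtype.ext h2) (Subtype.ext h3) ?_ ?_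
  · intro h
    exact h4 (congrArg Subtype.val h)
  · intro k hk h
    exact h5 k hk (congrArg Subtype.val h)

theorem psp32 : Pair 3 (PSp 3 (ZMod 2)) := by
  refine psp_pair (by norm_num)
    (X := fromBlocks !![0, 0, 0; 0, 1, 0; 0, 0, 1] !![1, 0, 0; 0, 0, 0; 0, 0, 0] !![1, 0, 0; 0, 0, 0; 0, 0, 0] 1)
    (Y := fromBlocks !![1, 0, 0; 0, 0, 0; 0, 0, 1] !![0, 0, 0; 0, 1, 0; 0, 0, 0] !![0, 0, 0; 0, 1, 0; 0, 0, 0] 1)
    (U := fromBlocks !![0, 1, 0; 1, 0, 0; 0, 0, 1] 0 0 !![0, 1, 0; 1, 0, 0; 0, 0, 1])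
    (V := fromBlocks !![1, 0, 0; 0, 0, 1; 0, 1, 0] 0 0 !![1, 0, 0; 0, 0, 1; 0, 1, 0]) ?_ ?_ ?_ ?_ ?_ ?_ ?_ ?_ ?_
  all_goals decide +kernel

theorem psp25 : Pair 5 (PSp 2 (ZMod 5)) := by
  refine psp_pair (by norm_num)
    (X := fromBlocks 1 !![1, 0; 0, 0] 0 1)
    (Y := fromBlocks 1 !![0, 0; 0, 1] 0 1)
    (U := fromBlocks !![0, 1; 1, 0] 0 0 !![0, 1; 1, 0])
    (V := fromBlocks 1 0 !![0, 0; 0, 1] 1) ?_ ?_ ?_ ?_ ?_ ?_ ?_ ?_ ?_
  all_goals decide +kernel

theorem psp_three_2 (h : Real (.psp 3 2) S) : Pair 3 S := by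
  obtain ⟨F, iF, iF', hF, ⟨e⟩⟩ := h
  exact psp32.of_equiv (e.trans (pspCongr 3 (FiniteField.ringEquivOfCardEq (hF.trans (ZMod.card 2).symm))))

theorem psp_two_5 (h : Real (.psp 2 5) S) : Pair 5 S := by
  obtain ⟨F, iF, iF', hF, ⟨e⟩⟩ := h
  exact psp25.of_equiv (e.trans (pspCongr 2 (FiniteField.ringEquivOfCardEq (hF.trans (ZMod.card 5).symm))))

end

/-! ### Unitary groups -/

theorem psu_three_5 [Finite S] (h9 : 3 ^ 2 ∣ Nat.card S) (h : Real (.psu 3 5) S) : Pair 3 S := by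
  obtain ⟨F, iF, iF', hF, ⟨e⟩⟩ := h
  have hp : Fact (Nat.Prime 5) := ⟨by norm_num⟩
  have hc : CharP F 5 := charP_of_card (k := 2) hp.out hF
  refine pair_of_no_sq (by norm_num) h9 fun g hg => ?_
  have h1 := Cfsg.Agent.H124.SUThreeEig.orderOf_dvd hF 5 (e g)
  rw [MulEquiv.orderOf_eq, hg] at h1
  rcases h1 with h1 | h1 | h1 | h1 | h1 <;> revert h1 <;> decide

theorem psu_three_4 [Finite S] (h25 : 5 ^ 2 ∣ Nat.card S) (h : Real (.psu 3 4) S) : Pair 5 S := by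
  obtain ⟨F, iF, iF', hF, ⟨e⟩⟩ := h
  have hp : Fact (Nat.Prime 2) := ⟨by norm_num⟩
  have hc : CharP F 2 := charP_of_card (k := 4) hp.out hF
  refine pair_of_no_sq (by norm_num) h25 fun g hg => ?_
  have h1 := Cfsg.Agent.H124.SUThreeEig.orderOf_dvd hF 2 (e g)
  rw [MulEquiv.orderOf_eq, hg] at h1
  rcases h1 with h1 | h1 | h1 | h1 | h1 <;> revert h1 <;> decide

theorem psu43 : Pair 3 Cfsg.Agent.H422.UFour.U4 := by
  have h : Pair 3 (Multiplicative Cfsg.Agent.H422.UFour.A3) := by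
    refine pair_of_pows (by norm_num) (x := Multiplicative.ofAdd (1, 0, 0, 0))
      (y := Multiplicative.ofAdd (0, 1, 0, 0)) ?_ ?_ ?_ ?_ ?_
    · decide
    · decide
    · decide
    · decide
    · decide
  refine h.map Cfsg.Agent.H422.UFour.f3 ?_
  rw [injective_iff_map_eq_one]
  intro v hv
  exact Cfsg.Agent.H422.UFour.f3_inj hv

theorem psu_four_3 (h : Real (.psu 4 3) S) : Pair 3 S := by
  obtain ⟨F, iF, iF', hF, ⟨e⟩⟩ := h
  let σ : F ≃+* Cfsg.Agent.ChevalleyStructure.NineField.F9 :=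
    FiniteField.ringEquivOfCardEq (hF.trans Cfsg.Agent.ChevalleyStructure.NineField.F9.card_F9.symm)
  exact psu43.of_equiv (e.trans (psuCongr 4 3 σ))

end Cfsg.Agent.H799.U45
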